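/-
Additive invariants of finite dimensional vector spaces with an endomorphism, and their alternating
sums along long exact sequences.  (trace formula: `traceInv`; L-function: `charInv d`.)
-/
import Mathlib.LinearAlgebra.Trace
import Mathlib.LinearAlgebra.Dimension.Finrank
import Mathlib.LinearAlgebra.FiniteDimensional.Basic
import Mathlib.Algebra.Exact.Basic
import Mathlib.Algebra.BigOperators.Finprod

set_option autoImplicit false
set_option linter.dupNamespace false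

universe v w

namespace Groth.Agent.Sga4h.H925.Inv

open scoped BigOperators

/-- An additive invariant `χ(V, φ) ∈ A` of finite dimensional `Λ`-vector spaces `V` with an endomorphism `φ`:
additive on short exact sequences. -/
structure Inv (Λ : Type) [Field Λ] (A : Type w) [AddCommGroup A] where
  val : ∀ (V : Type v) [AddCommGroup V] [Module Λ V], (V →ₗ[Λ] V) → A
  exact : ∀ (V₁ V₂ V₃ : Type v) [AddCommGroup V₁] [Module Λ V₁] [AddCommGroup V₂] [Module Λ V₂]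
    [AddCommGroup V₃] [Module Λ V₃] [FiniteDimensional Λ V₂]
    (i : V₁ →ₗ[Λ] V₂) (p : V₂ →ₗ[Λ] V₃) (φ₁ : V₁ →ₗ[Λ] V₁) (φ₂ : V₂ →ₗ[Λ] V₂) (φ₃ : V₃ →ₗ[Λ] V₃),
    Function.Injective i → Function.Surjective p → Function.Exact i p →
    i ∘ₗ φ₁ = φ₂ ∘ₗ i → p ∘ₗ φ₂ = φ₃ ∘ₗ p → val V₂ φ₂ = val V₁ φ₁ + val V₃ φ₃

variable {Λ : Type} [Field Λ] {A : Type w} [AddCommGroup A] (χ : Inv.{v} Λ A)

namespace Inv

theorem val_subsingleton (V : Type v) [AddCommGroup V] [Module Λ V] [Subsingleton V] (φ : V →ₗ[Λ] V) :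
    χ.val V φ = 0 := by
  have h := χ.exact V V V (0 : V →ₗ[Λ] V) (0 : V →ₗ[Λ] V) φ φ φ
    (Function.injective_of_subsingleton _) (fun x => ⟨0, Subsingleton.elim _ _⟩)
    (fun x => ⟨fun _ => ⟨0, Subsingleton.elim _ _⟩, fun _ => Subsingleton.elim _ _⟩)
    (LinearMap.ext fun x => Subsingleton.elim _ _) (LinearMap.ext fun x => Subsingleton.elim _ _)
  simpa using h

theorem val_congr {V W : Type v} [AddCommGroup V] [Module Λ V] [AddCommGroup W] [Module Λ W]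
    [FiniteDimensional Λ W]
    (e : V ≃ₗ[Λ] W) (φ : V →ₗ[Λ] V) (ψ : W →ₗ[Λ] W) (h : ∀ x, e (φ x) = ψ (e x)) :
    χ.val V φ = χ.val W ψ := by
  have h' := χ.exact V W PUnit.{v + 1} (e : V →ₗ[Λ] W) (0 : W →ₗ[Λ] PUnit.{v + 1}) φ ψ 0
    e.injective (fun x => ⟨0, Subsingleton.elim _ _⟩)
    (fun y => ⟨fun _ => ⟨e.symm y, by simp⟩, fun _ => Subsingleton.elim _ _⟩)
    (LinearMap.ext fun x => by simpa using h x) (by ext)
  rw [χ.val_subsingleton PUnit.{v + 1}, add_zero] at h'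
  exact h'.symm

theorem val_submodule {V : Type v} [AddCommGroup V] [Module Λ V] [FiniteDimensional Λ V]
    (φ : V →ₗ[Λ] V) (S : Submodule Λ V) (hS : ∀ x ∈ S, φ x ∈ S) :
    χ.val V φ = χ.val S (φ.restrict hS) + χ.val (V ⧸ S) (S.mapQ S φ hS) := by
  refine χ.exact S V (V ⧸ S) S.subtype S.mkQ (φ.restrict hS) φ (S.mapQ S φ hS)
    S.subtype_injective S.mkQ_surjective ?_ ?_ ?_
  · intro y
    constructor
    · intro hy
      exact ⟨⟨y, by simpa using hy⟩, rfl⟩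
    · rintro ⟨x, rfl⟩
      simp
  · ext x; rfl
  · ext x; rfl

/-- The value on the image of an equivariant map. -/
theorem val_eq_ker_add_range {V W : Type v} [AddCommGroup V] [Module Λ V] [AddCommGroup W] [Module Λ W]
    [FiniteDimensional Λ V] (f : V →ₗ[Λ] W) (φ : V →ₗ[Λ] V) (ψ : W →ₗ[Λ] W) (h : f ∘ₗ φ = ψ ∘ₗ f)
    (hk : ∀ x ∈ LinearMap.ker f, φ x ∈ LinearMap.ker f)
    (hr : ∀ x ∈ LinearMap.range f, ψ x ∈ LinearMap.range f) :
    χ.val V φ = χ.val (LinearMap.ker f) (φ.restrict hk) + χ.val (LinearMap.range f) (ψ.restrict hr) := by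
  refine χ.exact (LinearMap.ker f) V (LinearMap.range f) (LinearMap.ker f).subtype f.rangeRestrict
    (φ.restrict hk) φ (ψ.restrict hr) (Submodule.subtype_injective _) f.surjective_rangeRestrict ?_ ?_ ?_
  · intro y
    constructor
    · intro hy
      exact ⟨⟨y, by simpa [Subtype.ext_iff] using hy⟩, rfl⟩
    · rintro ⟨x, rfl⟩
      apply Subtype.ext
      exact x.2
  · ext x; rfl
  · ext x
    exact congrArg (fun t => t x) h

end Inv

/-- Data of a long exact sequence `0 → V 0 → V 1 → V 2 → ...` (all degrees written in one row) of finite dimensional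
vector spaces with compatible endomorphisms: the alternating sum of an additive invariant vanishes. -/
theorem Inv.alt_sum_range (V : ℕ → Type v) [∀ n, AddCommGroup (V n)] [∀ n, Module Λ (V n)]
    [∀ n, FiniteDimensional Λ (V n)] (d : ∀ n, V n →ₗ[Λ] V (n + 1)) (φ : ∀ n, V n →ₗ[Λ] V n)
    (hφ : ∀ n x, d n (φ n x) = φ (n + 1) (d n x)) (hinj : Function.Injective (d 0))
    (hex : ∀ n, Function.Exact (d n) (d (n + 1))) (m : ℕ)
    (hr : ∀ n, ∀ x ∈ LinearMap.range (d n), φ (n + 1) x ∈ LinearMap.range (d n)) :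
    ∑ n ∈ Finset.range (m + 1), (-1 : ℤ) ^ n • χ.val (V n) (φ n) =
      (-1 : ℤ) ^ m • χ.val (LinearMap.range (d m)) ((φ (m + 1)).restrict (hr m)) := by
  have hk : ∀ n, ∀ x ∈ LinearMap.ker (d n), φ n x ∈ LinearMap.ker (d n) := by
    intro n x hx
    rw [LinearMap.mem_ker] at hx ⊢
    rw [hφ, hx, map_zero]
  induction m with
  | zero =>
    simp only [zero_add, Finset.range_one, Finset.sum_singleton, pow_zero, one_smul]
    rw [χ.val_eq_ker_add_range (d 0) (φ 0) (φ 1) (LinearMap.ext fun x => hφ 0 x) (hk 0) (hr 0)]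
    have : Subsingleton (LinearMap.ker (d 0)) := by
      rw [LinearMap.ker_eq_bot.2 hinj]; infer_instance
    rw [χ.val_subsingleton, zero_add]
  | succ m ih =>
    rw [Finset.sum_range_succ, ih,
      χ.val_eq_ker_add_range (d (m + 1)) (φ (m + 1)) (φ (m + 2)) (LinearMap.ext fun x => hφ (m + 1) x)
        (hk (m + 1)) (hr (m + 1))]
    have hke : LinearMap.ker (d (m + 1)) = LinearMap.range (d m) := (hex m).linearMap_ker_eq
    have e : χ.val (LinearMap.ker (d (m + 1))) ((φ (m + 1)).restrict (hk (m + 1))) =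
        χ.val (LinearMap.range (d m)) ((φ (m + 1)).restrict (hr m)) := by
      refine χ.val_congr (LinearEquiv.ofEq _ _ hke) _ _ ?_
      intro x
      rfl
    rw [e, pow_succ]
    simp only [mul_neg, mul_one, neg_smul, smul_add]
    abel

/-- `∑ (-1)^n χ(V n, φ n)` (a finitary sum). -/
noncomputable def Inv.alt (V : ℕ → Type v) [∀ n, AddCommGroup (V n)] [∀ n, Module Λ (V n)]
    (φ : ∀ n, V n →ₗ[Λ] V n) : A :=
  ∑ᶠ n : ℕ, (-1 : ℤ) ^ n • χ.val (V n) (φ n)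

theorem Inv.alt_eq_sum (V : ℕ → Type v) [∀ n, AddCommGroup (V n)] [∀ n, Module Λ (V n)]
    (φ : ∀ n, V n →ₗ[Λ] V n) (m : ℕ) (hm : ∀ n, m ≤ n → Subsingleton (V n)) :
    χ.alt V φ = ∑ n ∈ Finset.range m, (-1 : ℤ) ^ n • χ.val (V n) (φ n) := by
  rw [Inv.alt, finsum_eq_sum_of_support_subset]
  intro n hn
  rw [Function.mem_support] at hn
  rw [Finset.coe_range, Set.mem_Iio]
  by_contra h
  have := hm n (not_lt.1 h)
  exact hn (by rw [χ.val_subsingleton, smul_zero])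

theorem Inv.alt_congr {V W : ℕ → Type v} [∀ n, AddCommGroup (V n)] [∀ n, Module Λ (V n)]
    [∀ n, AddCommGroup (W n)] [∀ n, Module Λ (W n)] [∀ n, FiniteDimensional Λ (W n)]
    (φ : ∀ n, V n →ₗ[Λ] V n) (ψ : ∀ n, W n →ₗ[Λ] W n) (e : ∀ n, V n ≃ₗ[Λ] W n)
    (h : ∀ n x, e n (φ n x) = ψ n (e n x)) : χ.alt V φ = χ.alt W ψ :=
  finsum_congr fun n => by rw [χ.val_congr (e n) (φ n) (ψ n) (h n)]

/-- One step of the long exact sequence bookkeeping. -/
theorem Inv.step {A₀ B₀ C₀ A₁ : Type v} [AddCommGroup A₀] [Module Λ A₀] [AddCommGroup B₀] [Module Λ B₀]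
    [AddCommGroup C₀] [Module Λ C₀] [AddCommGroup A₁] [Module Λ A₁] [FiniteDimensional Λ A₀]
    [FiniteDimensional Λ B₀] [FiniteDimensional Λ C₀]
    (f : A₀ →ₗ[Λ] B₀) (g : B₀ →ₗ[Λ] C₀) (δ : C₀ →ₗ[Λ] A₁) (f₁ : A₁ →ₗ[Λ] A₁)
    (a : A₀ →ₗ[Λ] A₀) (b : B₀ →ₗ[Λ] B₀) (c : C₀ →ₗ[Λ] C₀)
    (hf : f ∘ₗ a = b ∘ₗ f) (hg : g ∘ₗ b = c ∘ₗ g) (hδ : δ ∘ₗ c = f₁ ∘ₗ δ)
    (hfg : Function.Exact f g) (hgδ : Function.Exact g δ)
    (hkf : ∀ x ∈ LinearMap.ker f, a x ∈ LinearMap.ker f)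
    (hrδ : ∀ x ∈ LinearMap.range δ, f₁ x ∈ LinearMap.range δ) :
    χ.val A₀ a + χ.val C₀ c = χ.val B₀ b + χ.val (LinearMap.ker f) (a.restrict hkf) +
      χ.val (LinearMap.range δ) (f₁.restrict hrδ) := by
  have hrf : ∀ x ∈ LinearMap.range f, b x ∈ LinearMap.range f := by
    rintro _ ⟨x, rfl⟩
    exact ⟨a x, congrArg (fun t => t x) hf⟩
  have hkg : ∀ x ∈ LinearMap.ker g, b x ∈ LinearMap.ker g := by
    intro x hx
    rw [hfg.linearMap_ker_eq] at hx ⊢
    exact hrf x hx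
  have hrg : ∀ x ∈ LinearMap.range g, c x ∈ LinearMap.range g := by
    rintro _ ⟨x, rfl⟩
    exact ⟨b x, congrArg (fun t => t x) hg⟩
  have hkδ : ∀ x ∈ LinearMap.ker δ, c x ∈ LinearMap.ker δ := by
    intro x hx
    rw [hgδ.linearMap_ker_eq] at hx ⊢
    exact hrg x hx
  rw [χ.val_eq_ker_add_range f a b hf hkf hrf, χ.val_eq_ker_add_range g b c hg hkg hrg,
    χ.val_eq_ker_add_range δ c f₁ hδ hkδ hrδ]
  have e₁ : χ.val (LinearMap.ker g) (b.restrict hkg) = χ.val (LinearMap.range f) (b.restrict hrf) :=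
    χ.val_congr (LinearEquiv.ofEq _ _ hfg.linearMap_ker_eq) _ _ fun x => rfl
  have e₂ : χ.val (LinearMap.ker δ) (c.restrict hkδ) = χ.val (LinearMap.range g) (c.restrict hrg) :=
    χ.val_congr (LinearEquiv.ofEq _ _ hgδ.linearMap_ker_eq) _ _ fun x => rfl
  rw [e₁, e₂]
  abel

/-- Long exact sequence `0 → A 0 → B 0 → C 0 → A 1 → ...` with compatible endomorphisms:
`χ(B) = χ(A) + χ(C)` for the alternating sums. -/
theorem Inv.alt_les (A' B' C' : ℕ → Type v) [∀ n, AddCommGroup (A' n)] [∀ n, Module Λ (A' n)]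
    [∀ n, AddCommGroup (B' n)] [∀ n, Module Λ (B' n)] [∀ n, AddCommGroup (C' n)] [∀ n, Module Λ (C' n)]
    [∀ n, FiniteDimensional Λ (A' n)] [∀ n, FiniteDimensional Λ (B' n)] [∀ n, FiniteDimensional Λ (C' n)]
    (f : ∀ n, A' n →ₗ[Λ] B' n) (g : ∀ n, B' n →ₗ[Λ] C' n) (δ : ∀ n, C' n →ₗ[Λ] A' (n + 1))
    (a : ∀ n, A' n →ₗ[Λ] A' n) (b : ∀ n, B' n →ₗ[Λ] B' n) (c : ∀ n, C' n →ₗ[Λ] C' n)
    (hf : ∀ n x, f n (a n x) = b n (f n x)) (hg : ∀ n x, g n (b n x) = c n (g n x))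
    (hδ : ∀ n x, δ n (c n x) = a (n + 1) (δ n x))
    (hinj : Function.Injective (f 0)) (hfg : ∀ n, Function.Exact (f n) (g n))
    (hgδ : ∀ n, Function.Exact (g n) (δ n)) (hδf : ∀ n, Function.Exact (δ n) (f (n + 1)))
    (m : ℕ) (hA : ∀ n, m ≤ n → Subsingleton (A' n)) (hB : ∀ n, m ≤ n → Subsingleton (B' n))
    (hC : ∀ n, m ≤ n → Subsingleton (C' n)) :
    χ.alt B' b = χ.alt A' a + χ.alt C' c := by
  have hkf : ∀ n, ∀ x ∈ LinearMap.ker (f n), a n x ∈ LinearMap.ker (f n) := by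
    intro n x hx
    rw [LinearMap.mem_ker] at hx ⊢
    rw [hf, hx, map_zero]
  have hrδ : ∀ n, ∀ x ∈ LinearMap.range (δ n), a (n + 1) x ∈ LinearMap.range (δ n) := by
    rintro n _ ⟨x, rfl⟩
    exact ⟨c n x, hδ n x⟩
  have key : ∀ n, χ.val (A' n) (a n) + χ.val (C' n) (c n) = χ.val (B' n) (b n) +
      χ.val (LinearMap.ker (f n)) ((a n).restrict (hkf n)) +
      χ.val (LinearMap.ker (f (n + 1))) ((a (n + 1)).restrict (hkf (n + 1))) := by
    intro n
    rw [χ.step (f n) (g n) (δ n) (a (n + 1)) (a n) (b n) (c n) (LinearMap.ext fun x => hf n x)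
      (LinearMap.ext fun x => hg n x) (LinearMap.ext fun x => hδ n x) (hfg n) (hgδ n) (hkf n) (hrδ n)]
    congr 1
    exact (χ.val_congr (LinearEquiv.ofEq _ _ (hδf n).linearMap_ker_eq) _ _ fun x => rfl).symm
  have tel : ∀ m, ∑ n ∈ Finset.range m, (-1 : ℤ) ^ n • (χ.val (A' n) (a n) + χ.val (C' n) (c n)) =
      ∑ n ∈ Finset.range m, (-1 : ℤ) ^ n • χ.val (B' n) (b n) -
      (-1 : ℤ) ^ m • χ.val (LinearMap.ker (f m)) ((a m).restrict (hkf m)) := by
    intro m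
    induction m with
    | zero =>
      have : Subsingleton (LinearMap.ker (f 0)) := by
        rw [LinearMap.ker_eq_bot.2 hinj]; infer_instance
      simp [χ.val_subsingleton (LinearMap.ker (f 0))]
    | succ m ih =>
      rw [Finset.sum_range_succ, ih, Finset.sum_range_succ, key m, pow_succ]
      simp only [mul_neg, mul_one, neg_smul, smul_add]
      abel
  rw [χ.alt_eq_sum A' a m hA, χ.alt_eq_sum B' b m hB, χ.alt_eq_sum C' c m hC, ← Finset.sum_add_distrib]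
  have h := tel m
  have : Subsingleton (A' m) := hA m le_rfl
  have : Subsingleton (LinearMap.ker (f m)) := inferInstance
  rw [χ.val_subsingleton (LinearMap.ker (f m)), smul_zero, sub_zero] at h
  rw [← h]
  exact Finset.sum_congr rfl fun n _ => (smul_add _ _ _)

end Groth.Agent.Sga4h.H925.Inv
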