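/-
`traceInv` and `detInv d` (the reversed characteristic polynomial at `T^d` as a unit of `Λ⟦X⟧`) are
additive invariants.
-/
import Groth.Agent.Sga4h.H925.Inv
import Groth.Prelude.Def_FinFrL
import Mathlib.LinearAlgebra.Matrix.Charpoly.Coeff
import Mathlib.RingTheory.PowerSeries.Basic
import Mathlib.RingTheory.PowerSeries.Inverse

set_option autoImplicit false
set_option linter.dupNamespace false

universe v w

namespace Groth.Agent.Sga4h.H925.DetInv

open Polynomial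
open Groth.Agent.Sga4h.H925.Inv

section Blocks

variable {Λ : Type} [Field Λ]

/-- In a short exact sequence the matrix of the middle endomorphism is block triangular for a suitable basis. -/
theorem exists_blocks {V₁ V₂ V₃ : Type v} [AddCommGroup V₁] [Module Λ V₁] [AddCommGroup V₂] [Module Λ V₂]
    [AddCommGroup V₃] [Module Λ V₃] [FiniteDimensional Λ V₂]
    (i : V₁ →ₗ[Λ] V₂) (p : V₂ →ₗ[Λ] V₃) (φ₁ : V₁ →ₗ[Λ] V₁) (φ₂ : V₂ →ₗ[Λ] V₂) (φ₃ : V₃ →ₗ[Λ] V₃)
    (hi : Function.Injective i) (hp : Function.Surjective p) (hex : Function.Exact i p)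
    (h₁ : i ∘ₗ φ₁ = φ₂ ∘ₗ i) (h₂ : p ∘ₗ φ₂ = φ₃ ∘ₗ p) :
    ∃ (n₁ n₃ : ℕ) (b₁ : Module.Basis (Fin n₁) Λ V₁) (b₃ : Module.Basis (Fin n₃) Λ V₃)
      (b₂ : Module.Basis (Fin n₁ ⊕ Fin n₃) Λ V₂) (B : Matrix (Fin n₁) (Fin n₃) Λ),
      LinearMap.toMatrix b₂ b₂ φ₂ = Matrix.fromBlocks (LinearMap.toMatrix b₁ b₁ φ₁) B 0
        (LinearMap.toMatrix b₃ b₃ φ₃) := by
  classical
  have : FiniteDimensional Λ V₁ := FiniteDimensional.of_injective i hi
  have : FiniteDimensional Λ V₃ := Module.Finite.of_surjective p hp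
  obtain ⟨s, hs⟩ := p.exists_rightInverse_of_surjective (LinearMap.range_eq_top.2 hp)
  have hs' : ∀ z, p (s z) = z := fun z => congrArg (fun t => t z) hs
  let e₀ : (V₁ × V₃) →ₗ[Λ] V₂ := i.coprod s
  have he₀ : Function.Bijective e₀ := by
    constructor
    · rw [injective_iff_map_eq_zero]
      rintro ⟨x, z⟩ h
      have h' : i x + s z = 0 := h
      have hz : z = 0 := by
        have := congrArg p h'
        rw [map_add, hs', map_zero, (hex (i x)).2 ⟨x, rfl⟩, zero_add] at this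
        exact this
      subst hz
      rw [map_zero, add_zero] at h'
      have := hi (h'.trans (map_zero i).symm)
      rw [this]; rfl
    · intro y
      obtain ⟨x, hx⟩ := (hex (y - s (p y))).1 (by rw [map_sub, hs', sub_self])
      exact ⟨(x, p y), by change i x + s (p y) = y; rw [hx]; abel⟩
  let e := LinearEquiv.ofBijective e₀ he₀
  have he : ∀ x z, e (x, z) = i x + s z := fun x z => rfl
  let b₁ := Module.finBasis Λ V₁
  let b₃ := Module.finBasis Λ V₃
  let b₂ := (b₁.prod b₃).map e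
  refine ⟨_, _, b₁, b₃, b₂, (LinearMap.toMatrix b₂ b₂ φ₂).toBlocks₁₂, ?_⟩
  have hsymm₁ : ∀ x, e.symm (i x) = (x, 0) := fun x => by
    rw [LinearEquiv.symm_apply_eq, he, map_zero, add_zero]
  have hsymm₂ : ∀ y, (e.symm y).2 = p y := fun y => by
    obtain ⟨⟨x, z⟩, rfl⟩ := e.surjective y
    rw [LinearEquiv.symm_apply_apply, he, map_add, hs', (hex (i x)).2 ⟨x, rfl⟩, zero_add]
  have h₁' : ∀ x, i (φ₁ x) = φ₂ (i x) := fun x => congrArg (fun t => t x) h₁
  have h₂' : ∀ x, p (φ₂ x) = φ₃ (p x) := fun x => congrArg (fun t => t x) h₂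
  ext (j | j) (l | l)
  · have hb : b₂ (Sum.inl l) = i (b₁ l) := by
      change e ((b₁.prod b₃) (Sum.inl l)) = _
      rw [Module.Basis.prod_apply]
      change e (b₁ l, 0) = _
      rw [he, map_zero, add_zero]
    rw [Matrix.fromBlocks_apply₁₁, LinearMap.toMatrix_apply, LinearMap.toMatrix_apply, hb, ← h₁']
    change (b₁.prod b₃).repr (e.symm (i (φ₁ (b₁ l)))) (Sum.inl j) = _
    rw [hsymm₁, Module.Basis.prod_repr_inl]
  · rfl
  · have hb : b₂ (Sum.inl l) = i (b₁ l) := by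
      change e ((b₁.prod b₃) (Sum.inl l)) = _
      rw [Module.Basis.prod_apply]
      change e (b₁ l, 0) = _
      rw [he, map_zero, add_zero]
    rw [Matrix.fromBlocks_apply₂₁, LinearMap.toMatrix_apply, hb, ← h₁']
    change (b₁.prod b₃).repr (e.symm (i (φ₁ (b₁ l)))) (Sum.inr j) = _
    rw [hsymm₁, Module.Basis.prod_repr_inr]
    simp
  · have hb : b₂ (Sum.inr l) = s (b₃ l) := by
      change e ((b₁.prod b₃) (Sum.inr l)) = _
      rw [Module.Basis.prod_apply]
      change e (0, b₃ l) = _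
      rw [he, map_zero, zero_add]
    rw [Matrix.fromBlocks_apply₂₂, LinearMap.toMatrix_apply, LinearMap.toMatrix_apply, hb]
    change (b₁.prod b₃).repr (e.symm (φ₂ (s (b₃ l)))) (Sum.inr j) = _
    rw [Module.Basis.prod_repr_inr, hsymm₂, h₂', hs']

end Blocks

/-- The trace as an additive invariant. -/
noncomputable def traceInv (Λ : Type) [Field Λ] : Inv.{v} Λ Λ where
  val V _ _ φ := LinearMap.trace Λ V φ
  exact V₁ V₂ V₃ _ _ _ _ _ _ _ i p φ₁ φ₂ φ₃ hi hp hex h₁ h₂ := by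
    classical
    obtain ⟨n₁, n₃, b₁, b₃, b₂, B, h⟩ := exists_blocks i p φ₁ φ₂ φ₃ hi hp hex h₁ h₂
    rw [LinearMap.trace_eq_matrix_trace Λ b₁, LinearMap.trace_eq_matrix_trace Λ b₂,
      LinearMap.trace_eq_matrix_trace Λ b₃, h]
    simp [Matrix.trace, Fintype.sum_sum_type]

/-- `charRev` in terms of a matrix. -/
theorem charRev_eq {Λ : Type} [CommRing Λ] {V : Type v} [AddCommGroup V] [Module Λ V] {n : Type} [Fintype n]
    [DecidableEq n] (b : Module.Basis n Λ V) (φ : V →ₗ[Λ] V) :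
    FinFr.charRev φ = (LinearMap.toMatrix b b φ).charpolyRev := by
  rw [FinFr.charRev, ← LinearMap.det_toMatrix (b.baseChange Λ[X]), Matrix.charpolyRev]
  congr 1
  ext i j
  rw [LinearMap.toMatrix_apply, Module.Basis.baseChange_apply, LinearMap.sub_apply, LinearMap.id_apply,
    LinearMap.smul_apply, LinearMap.baseChange_tmul, map_sub, map_smul, Finsupp.sub_apply, Finsupp.smul_apply,
    Module.Basis.baseChange_repr_tmul, Module.Basis.baseChange_repr_tmul, Matrix.sub_apply, Matrix.smul_apply,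
    Matrix.map_apply, LinearMap.toMatrix_apply]
  simp [Matrix.one_apply, Finsupp.single_apply, Algebra.smul_def, eq_comm]

theorem charRev_exact {Λ : Type} [Field Λ] {V₁ V₂ V₃ : Type v} [AddCommGroup V₁] [Module Λ V₁]
    [AddCommGroup V₂] [Module Λ V₂]
    [AddCommGroup V₃] [Module Λ V₃] [FiniteDimensional Λ V₂]
    (i : V₁ →ₗ[Λ] V₂) (p : V₂ →ₗ[Λ] V₃) (φ₁ : V₁ →ₗ[Λ] V₁) (φ₂ : V₂ →ₗ[Λ] V₂) (φ₃ : V₃ →ₗ[Λ] V₃)
    (hi : Function.Injective i) (hp : Function.Surjective p) (hex : Function.Exact i p)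
    (h₁ : i ∘ₗ φ₁ = φ₂ ∘ₗ i) (h₂ : p ∘ₗ φ₂ = φ₃ ∘ₗ p) :
    FinFr.charRev φ₂ = FinFr.charRev φ₁ * FinFr.charRev φ₃ := by
  classical
  obtain ⟨n₁, n₃, b₁, b₃, b₂, B, h⟩ := exists_blocks i p φ₁ φ₂ φ₃ hi hp hex h₁ h₂
  rw [charRev_eq b₁, charRev_eq b₂, charRev_eq b₃, h, Matrix.charpolyRev, Matrix.fromBlocks_map,
    Matrix.fromBlocks_smul, ← Matrix.fromBlocks_one, sub_eq_add_neg, Matrix.fromBlocks_neg,
    Matrix.fromBlocks_add]
  have : (0 : Matrix (Fin n₃) (Fin n₁) Λ[X]) + -((X : Λ[X]) • (0 : Matrix (Fin n₃) (Fin n₁) Λ).map C) = 0 := by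
    ext; simp
  rw [this, Matrix.det_fromBlocks_zero₂₁, ← sub_eq_add_neg, ← sub_eq_add_neg]
  rfl

theorem coeff_zero_charRev {Λ : Type} [Field Λ] {V : Type v} [AddCommGroup V] [Module Λ V]
    (φ : V →ₗ[Λ] V) : (FinFr.charRev φ).coeff 0 = 1 := by
  classical
  by_cases h : FiniteDimensional Λ V
  · rw [charRev_eq (Module.finBasis Λ V), coeff_zero_eq_eval_zero, Matrix.eval_charpolyRev]
  · have : FinFr.charRev φ = 1 := by
      rw [FinFr.charRev]
      refine LinearMap.det_eq_one_of_not_module_finite (R := Λ[X]) (M := TensorProduct Λ Λ[X] V)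
        (fun hf => h ?_) _
      let b : Module.Basis (Module.Free.ChooseBasisIndex Λ V) Λ V := Module.Free.chooseBasis Λ V
      have := Module.Finite.finite_basis (b.baseChange Λ[X])
      exact Module.Finite.of_basis b
    rw [this, coeff_one_zero]

/-- The unit of `Λ⟦X⟧` given by a polynomial with constant term `1` (`1` if it is not a unit). -/
noncomputable def psUnit {Λ : Type} [CommRing Λ] (f : Λ[X]) : (PowerSeries Λ)ˣ :=
  open Classical in if h : IsUnit (f : PowerSeries Λ) then h.unit else 1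

theorem isUnit_coe {Λ : Type} [CommRing Λ] {f : Λ[X]} (h : f.coeff 0 = 1) : IsUnit (f : PowerSeries Λ) := by
  rw [PowerSeries.isUnit_iff_constantCoeff, Polynomial.constantCoeff_coe, h]
  exact isUnit_one

theorem val_psUnit {Λ : Type} [CommRing Λ] {f : Λ[X]} (h : f.coeff 0 = 1) :
    (psUnit f : PowerSeries Λ) = f := by
  rw [psUnit, dif_pos (isUnit_coe h)]
  rfl

theorem psUnit_mul {Λ : Type} [CommRing Λ] {f g : Λ[X]} (hf : f.coeff 0 = 1) (hg : g.coeff 0 = 1) :
    psUnit (f * g) = psUnit f * psUnit g := by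
  ext1
  rw [Units.val_mul, val_psUnit hf, val_psUnit hg, val_psUnit (by rw [mul_coeff_zero, hf, hg, one_mul]),
    Polynomial.coe_mul]

@[simp] theorem psUnit_one {Λ : Type} [CommRing Λ] : psUnit (1 : Λ[X]) = 1 := by
  ext1
  rw [val_psUnit coeff_one_zero, Polynomial.coe_one, Units.val_one]

theorem psUnit_prod {Λ : Type} [CommRing Λ] {ι : Type*} (s : Finset ι) (f : ι → Λ[X])
    (hf : ∀ i ∈ s, (f i).coeff 0 = 1) : psUnit (∏ i ∈ s, f i) = ∏ i ∈ s, psUnit (f i) ∧
      (∏ i ∈ s, f i).coeff 0 = 1 := by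
  classical
  induction s using Finset.induction_on with
  | empty => simp
  | insert a s ha ih =>
    rw [Finset.prod_insert ha, Finset.prod_insert ha]
    obtain ⟨h₁, h₂⟩ := ih fun i hi => hf i (Finset.mem_insert_of_mem hi)
    have h₃ := hf a (Finset.mem_insert_self _ _)
    exact ⟨by rw [psUnit_mul h₃ h₂, h₁], by rw [mul_coeff_zero, h₂, h₃, one_mul]⟩

theorem coeff_zero_expand {Λ : Type} [CommRing Λ] {d : ℕ} (hd : d ≠ 0) {f : Λ[X]} (h : f.coeff 0 = 1) :
    (expand Λ d f).coeff 0 = 1 := by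
  rw [coeff_expand (Nat.pos_of_ne_zero hd)]
  simp [h]

/-- `det(1 - φ T^d)` as a unit of `Λ⟦T⟧`, an additive invariant (`0` for `d = 0`). -/
noncomputable def detInv (Λ : Type) [Field Λ] (d : ℕ) : Inv.{v} Λ (Additive (PowerSeries Λ)ˣ) where
  val V _ _ φ := if d = 0 then 0 else Additive.ofMul (psUnit (expand Λ d (FinFr.charRev φ)))
  exact V₁ V₂ V₃ _ _ _ _ _ _ _ i p φ₁ φ₂ φ₃ hi hp hex h₁ h₂ := by
    split_ifs with hd
    · simp
    · rw [charRev_exact i p φ₁ φ₂ φ₃ hi hp hex h₁ h₂, map_mul,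
        psUnit_mul (coeff_zero_expand hd (coeff_zero_charRev _)) (coeff_zero_expand hd (coeff_zero_charRev _)),
        ofMul_mul]

theorem detInv_val {Λ : Type} [Field Λ] {d : ℕ} (hd : d ≠ 0) (V : Type v) [AddCommGroup V] [Module Λ V]
    (φ : V →ₗ[Λ] V) :
    (detInv Λ d).val V φ = Additive.ofMul (psUnit (expand Λ d (FinFr.charRev φ))) := if_neg hd

theorem detInv_one_val {Λ : Type} [Field Λ] (V : Type v) [AddCommGroup V] [Module Λ V]
    (φ : V →ₗ[Λ] V) :
    (detInv Λ 1).val V φ = Additive.ofMul (psUnit (FinFr.charRev φ)) := by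
  rw [detInv_val one_ne_zero, expand_one]

end Groth.Agent.Sga4h.H925.DetInv
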