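/-
Global and local sides of the trace formula / L-function formula for an arbitrary additive invariant `χ`
(fixed base field `k`, `K` an algebraic closure).
-/
import Groth.Agent.Sga4h.H925.DetInv
import Mathlib.RingTheory.Ideal.Quotient.Operations

set_option autoImplicit false
set_option linter.dupNamespace false

universe u v w w'

open CategoryTheory CategoryTheory.Limits AlgebraicGeometry Opposite

namespace Groth.Agent.Sga4h.H925.Defs

open Groth.Agent.Sga4h.H925.Inv Groth.Agent.Sga4h.H925.DetInv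

section Map

variable {Λ : Type} [Field Λ] {A : Type w} [AddCommGroup A] {B : Type w'} [AddCommGroup B]

/-- Push an additive invariant along a homomorphism of value groups. -/
def mapInv (χ : Inv.{v} Λ A) (f : A →+ B) : Inv.{v} Λ B where
  val V _ _ φ := f (χ.val V φ)
  exact V₁ V₂ V₃ _ _ _ _ _ _ _ i p φ₁ φ₂ φ₃ hi hp hex h₁ h₂ := by
    rw [χ.exact V₁ V₂ V₃ i p φ₁ φ₂ φ₃ hi hp hex h₁ h₂, map_add]

@[simp] theorem mapInv_val (χ : Inv.{v} Λ A) (f : A →+ B) (V : Type v) [AddCommGroup V] [Module Λ V]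
    (φ : V →ₗ[Λ] V) : (mapInv χ f).val V φ = f (χ.val V φ) := rfl

end Map

section TruncDet

variable (Λ : Type) [Field Λ]

/-- `Λ[[T]] / T^(N+1)`. -/
abbrev TrRing (N : ℕ) : Type := PowerSeries Λ ⧸ Ideal.span {(PowerSeries.X : PowerSeries Λ) ^ (N + 1)}

/-- The reduction `Λ[[T]]ˣ → (Λ[[T]]/T^(N+1))ˣ`, written additively. -/
noncomputable def trMap (N : ℕ) : Additive (PowerSeries Λ)ˣ →+ Additive (TrRing Λ N)ˣ :=
  (Units.map (Ideal.Quotient.mk (Ideal.span {(PowerSeries.X : PowerSeries Λ) ^ (N + 1)})).toMonoidHom).toAdditive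

/-- `det(1 - T φ)` in `(Λ[[T]]/T^(N+1))ˣ` as an additive invariant. -/
noncomputable def detInvN (N : ℕ) : Inv.{v} Λ (Additive (TrRing Λ N)ˣ) := mapInv (detInv Λ 1) (trMap Λ N)

end TruncDet

section Coh

/-- `H^n(X, L)` for an etale sheaf of `Λ`-modules (a definition, to keep instance terms small). -/
def HL {Λ : Type} [CommRing Λ] {X : Scheme.{u}} (L : EtLam.Sheaf Λ X) (n : ℕ) : Type (u + 1) :=
  EtCoh.H X L.carrier n

noncomputable instance instAddCommGroupHL {Λ : Type} [CommRing Λ] {X : Scheme.{u}} (L : EtLam.Sheaf Λ X)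
    (n : ℕ) : AddCommGroup (HL L n) :=
  Abelian.Ext.instAddCommGroup ..

noncomputable instance instModuleHL {Λ : Type} [CommRing Λ] {X : Scheme.{u}} (L : EtLam.Sheaf Λ X) (n : ℕ) :
    Module Λ (HL L n) := EtLam.moduleH L n

variable {k : Type u} [Field k] (K : Type u) [Field K] [Algebra k K]
   {Λ : Type} [CommRing Λ] {P : Scheme.{u}} (b : P ⟶ Spec (CommRingCat.of k))

/-- `H^i(P_K, M)`. -/
noncomputable abbrev HK (M : EtLam.Sheaf Λ P) (i : ℕ) : Type (u + 1) := HL (EtLam.pullback (FinFr.extπ K b) M) i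

/-- The geometric Frobenius on `H^i(P_K, M)`. -/
noncomputable def frobK [Fintype k] [Algebra.IsAlgebraic k K] [Fact FinFr.PullExact.{u}]
    (M : EtLam.Sheaf Λ P) (i : ℕ) : HK K b M i →ₗ[Λ] HK K b M i :=
  FinFr.frob (K := K) b M i

end Coh

section Sides

variable {k : Type u} [Field k] [Fintype k] (K : Type u) [Field K] [Algebra k K] [Algebra.IsAlgebraic k K]
  [Fact FinFr.PullExact.{u}] {Λ : Type} [Field Λ] {A : Type w} [AddCommGroup A] (χ : Inv.{u + 1} Λ A)
  {P : Scheme.{u}} (b : P ⟶ Spec (CommRingCat.of k))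

/-- The global side `Σ (-1)^i χ(H^i(P_K, M), F)`. -/
noncomputable def glob (M : EtLam.Sheaf Λ P) : A :=
  χ.alt (fun i => HK K b M i) (fun i => frobK K b M i)

/-- The local term at a point `x`: `Spec κ(x)` is regarded as a `k`-scheme. -/
noncomputable def locV (x : P) (M : EtLam.Sheaf Λ P) : A :=
  χ.val _ (frobK K (P.fromSpecResidueField x ≫ b) (EtLam.pullback (P.fromSpecResidueField x) M) 0)

/-- The local side: sum over the closed points of degree `≤ N`. -/
noncomputable def loc (N : ℕ) (M : EtLam.Sheaf Λ P) : A :=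
  ∑ᶠ x : {x : FinFr.ClosedPt P // FinFr.ptDeg b x.1 ≤ N}, locV K χ b x.1.1 M

/-- The defect `global side - local side`. -/
noncomputable def defect (N : ℕ) (M : EtLam.Sheaf Λ P) : A := glob K χ b M - loc K χ b N M

end Sides

/-- The L-function identity modulo `T^(N+1)` for a `Λ`-sheaf on a proper `k`-scheme (the conclusion of `S4258` for
`j = 𝟙`, with `frob` in place of `frobC`). -/
def LF {k : Type u} [Field k] [Fintype k] (K : Type u) [Field K] [Algebra k K] [Algebra.IsAlgebraic k K]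
    [Fact FinFr.PullExact.{u}] {Λ : Type} [Field Λ] {P : Scheme.{u}} (b : P ⟶ Spec (CommRingCat.of k))
    (M : EtLam.Sheaf Λ P) (N : ℕ) : Prop :=
  ∀ m : ℕ, m ≤ N →
    Polynomial.coeff ((∏ᶠ i : {i : ℕ // Odd i}, FinFr.charRev (FinFr.frob (K := K) b M i.1)) *
        ∏ᶠ x : {x : FinFr.ClosedPt P // FinFr.ptDeg b x.1 ≤ N}, FinFr.locFactor b x.1.1 M) m =
      Polynomial.coeff (∏ᶠ i : {i : ℕ // Even i}, FinFr.charRev (FinFr.frob (K := K) b M i.1)) m

end Groth.Agent.Sga4h.H925.Defs
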