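/-
`Λ`-linear maps on `HL L n = H^n(X, L)`: functoriality, connecting maps, pullback.
-/
import Groth.Agent.Sga4h.H925.Defs
import Groth.Agent.Etrest.HPost2
import Groth.Agent.Etcore.LamFG

set_option autoImplicit false
set_option linter.dupNamespace false

universe u v w w'

open CategoryTheory CategoryTheory.Limits AlgebraicGeometry Opposite CategoryTheory.Abelian

namespace Groth.Agent.Sga4h.H925.HLin

open Groth.Agent.Sga4h.H925.Inv Groth.Agent.Sga4h.H925.Defs
open Groth.Agent.Etrest.HPost Groth.Agent.Etcore.LamFG Groth.Agent.Etcore.PullCoh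

section Post

variable {Λ : Type} [CommRing Λ] {X : Scheme.{u}}

/-- `post` on `HL`. -/
noncomputable def postH {L L' : EtLam.Sheaf Λ X} (φ : L.carrier ⟶ L'.carrier) (n : ℕ) (x : HL L n) : HL L' n :=
  (post φ n (x : EtCoh.H X L.carrier n) : EtCoh.H X L'.carrier n)

theorem smul_eq (L : EtLam.Sheaf Λ X) (n : ℕ) (r : Λ) (x : HL L n) :
    r • x = postH (L' := L) (L.act r) n x := rfl

theorem postH_add {L L' : EtLam.Sheaf Λ X} (φ : L.carrier ⟶ L'.carrier) (n : ℕ) (x y : HL L n) :
    postH (L' := L') φ n (x + y) = postH φ n x + postH φ n y := map_add (post φ n) _ _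

theorem postH_comp {L L' L'' : EtLam.Sheaf Λ X} (φ : L.carrier ⟶ L'.carrier) (ψ : L'.carrier ⟶ L''.carrier)
    (n : ℕ) (x : HL L n) :
    postH (L' := L'') ψ n (postH (L' := L') φ n x) = postH (φ ≫ ψ) n x := post_comp φ ψ n _

theorem postH_id (L : EtLam.Sheaf Λ X) (n : ℕ) (x : HL L n) : postH (L' := L) (𝟙 L.carrier) n x = x :=
  post_id n _

/-- The `Λ`-linear map on cohomology induced by an equivariant morphism. -/
noncomputable def postL {L L' : EtLam.Sheaf Λ X} (φ : L.carrier ⟶ L'.carrier) (hφ : Equi L.act L'.act φ)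
    (n : ℕ) : HL L n →ₗ[Λ] HL L' n where
  toFun x := postH φ n x
  map_add' x y := postH_add φ n x y
  map_smul' r x := by
    rw [smul_eq, postH_comp, hφ r, ← postH_comp]
    rfl

theorem postL_apply {L L' : EtLam.Sheaf Λ X} (φ : L.carrier ⟶ L'.carrier) (hφ : Equi L.act L'.act φ)
    (n : ℕ) (x : HL L n) : postL φ hφ n x = postH φ n x := rfl

variable {L₁ L₂ L₃ : EtLam.Sheaf Λ X} {f : L₁.carrier ⟶ L₂.carrier} {g : L₂.carrier ⟶ L₃.carrier}
  {w : f ≫ g = 0}

/-- The connecting map on `HL`. -/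
noncomputable def connH (hS : (ShortComplex.mk f g w).ShortExact) (n : ℕ) (x : HL L₃ n) : HL L₁ (n + 1) :=
  (conn hS n (x : EtCoh.H X L₃.carrier n) : EtCoh.H X L₁.carrier (n + 1))

theorem connH_add (hS : (ShortComplex.mk f g w).ShortExact) (n : ℕ) (x y : HL L₃ n) :
    connH hS n (x + y) = connH hS n x + connH hS n y := map_add (conn hS n) _ _

/-- Naturality of the connecting map. -/
theorem post_conn {S T : ShortComplex (EtCoh.Ab X)} (hS : S.ShortExact) (hT : T.ShortExact) (φ : S ⟶ T)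
    (n : ℕ) (e : EtCoh.H X S.X₃ n) :
    post φ.τ₁ (n + 1) (conn hS n e) = conn hT n (post φ.τ₃ n e) := by
  change Ext.comp (Ext.comp e hS.extClass rfl) (Ext.mk₀ φ.τ₁) (add_zero _) =
    Ext.comp (Ext.comp e (Ext.mk₀ φ.τ₃) (add_zero n)) hT.extClass rfl
  rw [Ext.comp_assoc e hS.extClass (Ext.mk₀ φ.τ₁) rfl (add_zero 1) (by omega),
    ShortComplex.ShortExact.extClass_naturality hS hT φ,
    Ext.comp_assoc e (Ext.mk₀ φ.τ₃) hT.extClass (add_zero n) (zero_add 1) (by omega)]

theorem postH_connH {L₁' L₂' L₃' : EtLam.Sheaf Λ X} {f' : L₁'.carrier ⟶ L₂'.carrier}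
    {g' : L₂'.carrier ⟶ L₃'.carrier} {w' : f' ≫ g' = 0}
    (hS : (ShortComplex.mk f g w).ShortExact) (hS' : (ShortComplex.mk f' g' w').ShortExact)
    (φ : ShortComplex.mk f g w ⟶ ShortComplex.mk f' g' w') (n : ℕ) (x : HL L₃ n) :
    postH (L' := L₁') φ.τ₁ (n + 1) (connH hS n x) = connH hS' n (postH (L' := L₃') φ.τ₃ n x) :=
  post_conn hS hS' φ n x

/-- The connecting map as a `Λ`-linear map. -/
noncomputable def connL (hS : (ShortComplex.mk f g w).ShortExact)
    (hf : Equi L₁.act L₂.act f) (hg : Equi L₂.act L₃.act g) (n : ℕ) :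
    HL L₃ n →ₗ[Λ] HL L₁ (n + 1) where
  toFun x := connH hS n x
  map_add' x y := connH_add hS n x y
  map_smul' r x := by
    let φ : ShortComplex.mk f g w ⟶ ShortComplex.mk f g w :=
      { τ₁ := (L₁.act r : L₁.carrier ⟶ L₁.carrier)
        τ₂ := (L₂.act r : L₂.carrier ⟶ L₂.carrier)
        τ₃ := (L₃.act r : L₃.carrier ⟶ L₃.carrier)
        comm₁₂ := hf r
        comm₂₃ := hg r }
    exact (postH_connH hS hS φ n x).symm

theorem connL_apply (hS : (ShortComplex.mk f g w).ShortExact)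
    (hf : Equi L₁.act L₂.act f) (hg : Equi L₂.act L₃.act g) (n : ℕ) (x : HL L₃ n) :
    connL hS hf hg n x = connH hS n x := rfl

theorem exact_fg' (hS : (ShortComplex.mk f g w).ShortExact) (hf : Equi L₁.act L₂.act f)
    (hg : Equi L₂.act L₃.act g) (n : ℕ) : Function.Exact (postL f hf n) (postL g hg n) :=
  exact_fg hS n

theorem exact_gd' (hS : (ShortComplex.mk f g w).ShortExact) (hf : Equi L₁.act L₂.act f)
    (hg : Equi L₂.act L₃.act g) (n : ℕ) : Function.Exact (postL g hg n) (connL hS hf hg n) :=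
  exact_gd hS n

theorem exact_df' (hS : (ShortComplex.mk f g w).ShortExact) (hf : Equi L₁.act L₂.act f)
    (hg : Equi L₂.act L₃.act g) (n : ℕ) : Function.Exact (connL hS hf hg n) (postL f hf (n + 1)) :=
  exact_df hS n

theorem postL_injective (hS : (ShortComplex.mk f g w).ShortExact) (hf : Equi L₁.act L₂.act f) :
    Function.Injective (postL f hf 0) := by
  have : Mono f := hS.mono_f
  exact post_injective f

end Post

end Groth.Agent.Sga4h.H925.HLin
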