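/-
Pullback maps on `HL` and the Galois/Frobenius action in terms of them.
-/
import Groth.Agent.Sga4h.H925.HLin

set_option autoImplicit false
set_option linter.dupNamespace false

universe u v w w'

open CategoryTheory CategoryTheory.Limits AlgebraicGeometry Opposite CategoryTheory.Abelian

namespace Groth.Agent.Sga4h.H925.HPullH

open Groth.Agent.Sga4h.H925.Inv Groth.Agent.Sga4h.H925.Defs Groth.Agent.Sga4h.H925.HLin
open Groth.Agent.Etrest.HPost Groth.Agent.Etcore.LamFG Groth.Agent.Etcore.PullCoh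

section Pull

variable {Λ : Type} [CommRing Λ] {X Y Z : Scheme.{u}}

theorem equi_pull (t : X ⟶ Y) {L L' : EtLam.Sheaf Λ Y} {φ : L.carrier ⟶ L'.carrier}
    (hφ : Equi L.act L'.act φ) :
    Equi (EtLam.pullback t L).act (EtLam.pullback t L').act ((EtCoh.pull t).map φ) := by
  intro r
  change (EtCoh.pull t).map (L.act r) ≫ (EtCoh.pull t).map φ = (EtCoh.pull t).map φ ≫ (EtCoh.pull t).map (L'.act r)
  rw [← Functor.map_comp, ← Functor.map_comp]
  exact congrArg (fun ψ => (EtCoh.pull t).map ψ) (hφ r)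

/-- `H^n(Y, L) → H^n(X, t⁻¹L)`. -/
noncomputable def pullH (t : X ⟶ Y) [PreservesFiniteLimits (EtCoh.pull t)] (L : EtLam.Sheaf Λ Y) (n : ℕ)
    (x : HL L n) : HL (EtLam.pullback t L) n :=
  (EtCore.Hpull t L.carrier n (x : EtCoh.H Y L.carrier n) : EtCoh.H X ((EtCoh.pull t).obj L.carrier) n)

theorem pullH_postH (t : X ⟶ Y) [PreservesFiniteLimits (EtCoh.pull t)] {L L' : EtLam.Sheaf Λ Y}
    (φ : L.carrier ⟶ L'.carrier) (n : ℕ) (x : HL L n) :
    pullH t L' n (postH (L' := L') φ n x) =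
      postH (L' := EtLam.pullback t L') ((EtCoh.pull t).map φ) n (pullH t L n x) :=
  Hpull_post t φ n x

theorem pullH_connH (t : X ⟶ Y) [PreservesFiniteLimits (EtCoh.pull t)] {L₁ L₂ L₃ : EtLam.Sheaf Λ Y}
    {f : L₁.carrier ⟶ L₂.carrier} {g : L₂.carrier ⟶ L₃.carrier} {w : f ≫ g = 0}
    (hS : (ShortComplex.mk f g w).ShortExact)
    (w' : (EtCoh.pull t).map f ≫ (EtCoh.pull t).map g = 0)
    (hS' : (ShortComplex.mk ((EtCoh.pull t).map f) ((EtCoh.pull t).map g) w').ShortExact)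
    (n : ℕ) (x : HL L₃ n) :
    pullH t L₁ (n + 1) (connH hS n x) =
      connH (L₁ := EtLam.pullback t L₁) (L₂ := EtLam.pullback t L₂) (L₃ := EtLam.pullback t L₃) hS' n
        (pullH t L₃ n x) :=
  Hpull_conn t hS n x

/-- The transitivity isomorphism as a map on cohomology `H^n(X, f⁻¹t⁻¹L) → H^n(X, f₀⁻¹L)`, `f₀ = f ≫ t`. -/
noncomputable def thH (f : X ⟶ Y) (t : Y ⟶ Z) (f₀ : X ⟶ Z) (w : f ≫ t = f₀) (L : EtLam.Sheaf Λ Z) (n : ℕ)
    (x : HL (EtLam.pullback f (EtLam.pullback t L)) n) : HL (EtLam.pullback f₀ L) n :=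
  postH (L := EtLam.pullback f (EtLam.pullback t L)) (L' := EtLam.pullback f₀ L) (th f t f₀ w L.carrier) n x

theorem thH_nat (f : X ⟶ Y) (t : Y ⟶ Z) (f₀ : X ⟶ Z) (w : f ≫ t = f₀) {L L' : EtLam.Sheaf Λ Z}
    (φ : L.carrier ⟶ L'.carrier) (n : ℕ) (x : HL (EtLam.pullback f (EtLam.pullback t L)) n) :
    thH f t f₀ w L' n (postH (L' := EtLam.pullback f (EtLam.pullback t L'))
      ((EtCoh.pull f).map ((EtCoh.pull t).map φ)) n x) =
      postH (L' := EtLam.pullback f₀ L') ((EtCoh.pull f₀).map φ) n (thH f t f₀ w L n x) := by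
  rw [thH, thH, postH_comp, postH_comp]
  exact congrArg (fun ψ => postH (L' := EtLam.pullback f₀ L') ψ n x) (th_nat f t f₀ w φ)

end Pull

end Groth.Agent.Sga4h.H925.HPullH
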