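/-
Additivity of the global side in short exact sequences of etale sheaves of `Λ`-modules.
-/
import Groth.Agent.Sga4h.H925.HPullH

set_option autoImplicit false
set_option linter.dupNamespace false

universe u v w w'

open CategoryTheory CategoryTheory.Limits AlgebraicGeometry Opposite CategoryTheory.Abelian

namespace Groth.Agent.Sga4h.H925.GlobAdd

open Groth.Agent.Sga4h.H925.Inv Groth.Agent.Sga4h.H925.Defs Groth.Agent.Sga4h.H925.HLin
open Groth.Agent.Sga4h.H925.HPullH
open Groth.Agent.Etrest.HPost Groth.Agent.Etcore.LamFG Groth.Agent.Etcore.PullCoh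

section Frob

variable {k : Type u} [Field k] [Fintype k] (K : Type u) [Field K] [Algebra k K] [Algebra.IsAlgebraic k K]
  [Fact FinFr.PullExact.{u}] {P : Scheme.{u}} (b : P ⟶ Spec (CommRingCat.of k))

section Ring

variable {Λ : Type} [CommRing Λ]

theorem frobK_eq (M : EtLam.Sheaf Λ P) (i : ℕ) (x : HK K b M i) :
    haveI := FinFr.pullExact_out (FinFr.galAct b (FinFr.arith k K).symm)
    frobK K b M i x = thH (FinFr.galAct b (FinFr.arith k K).symm) (FinFr.extπ K b) (FinFr.extπ K b)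
      (FinFr.galAct_fst b _) M i (pullH (FinFr.galAct b (FinFr.arith k K).symm)
        (EtLam.pullback (FinFr.extπ K b) M) i x) := by
  have := FinFr.pullExact_out (FinFr.galAct b (FinFr.arith k K).symm)
  exact HpullVia_post _ _ _ _ _ _ _

variable {L L' : EtLam.Sheaf Λ P}

/-- The map on `H^n(P_K, -)` induced by an equivariant morphism. -/
noncomputable def mapK (φ : L.carrier ⟶ L'.carrier) (hφ : Equi L.act L'.act φ) (n : ℕ) :
    HK K b L n →ₗ[Λ] HK K b L' n :=
  postL (L := EtLam.pullback (FinFr.extπ K b) L) (L' := EtLam.pullback (FinFr.extπ K b) L')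
    ((EtCoh.pull (FinFr.extπ K b)).map φ) (equi_pull _ hφ) n

omit [Fintype k] [Algebra.IsAlgebraic k K] [Fact FinFr.PullExact.{u}] in
theorem mapK_apply (φ : L.carrier ⟶ L'.carrier) (hφ : Equi L.act L'.act φ) (n : ℕ) (x : HK K b L n) :
    mapK K b φ hφ n x = postH (L := EtLam.pullback (FinFr.extπ K b) L)
      (L' := EtLam.pullback (FinFr.extπ K b) L') ((EtCoh.pull (FinFr.extπ K b)).map φ) n x := rfl

theorem frobK_mapK (φ : L.carrier ⟶ L'.carrier) (hφ : Equi L.act L'.act φ) (n : ℕ) (x : HK K b L n) :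
    mapK K b φ hφ n (frobK K b L n x) = frobK K b L' n (mapK K b φ hφ n x) := by
  have := FinFr.pullExact_out (FinFr.galAct b (FinFr.arith k K).symm)
  rw [frobK_eq, frobK_eq, mapK_apply, mapK_apply]
  have h1 := pullH_postH (FinFr.galAct b (FinFr.arith k K).symm) (L := EtLam.pullback (FinFr.extπ K b) L)
      (L' := EtLam.pullback (FinFr.extπ K b) L') ((EtCoh.pull (FinFr.extπ K b)).map φ) n x
  have h2 := thH_nat (FinFr.galAct b (FinFr.arith k K).symm) (FinFr.extπ K b) (FinFr.extπ K b)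
    (FinFr.galAct_fst b _) φ n (pullH (FinFr.galAct b (FinFr.arith k K).symm) (EtLam.pullback (FinFr.extπ K b) L) n x)
  exact h2.symm.trans (congrArg (thH (FinFr.galAct b (FinFr.arith k K).symm) (FinFr.extπ K b) (FinFr.extπ K b)
    (FinFr.galAct_fst b _) L' n) h1.symm)

variable {L₁ L₂ L₃ : EtLam.Sheaf Λ P}
    {f : L₁.carrier ⟶ L₂.carrier} {g : L₂.carrier ⟶ L₃.carrier} {w : f ≫ g = 0}

omit [Fintype k] [Algebra.IsAlgebraic k K] [Fact FinFr.PullExact.{u}] in
theorem pull_w {X : Scheme.{u}} (t : X ⟶ P) (w : f ≫ g = 0) :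
    (EtCoh.pull t).map f ≫ (EtCoh.pull t).map g = 0 := by
  rw [← Functor.map_comp, w, Functor.map_zero]

omit [Fintype k] [Algebra.IsAlgebraic k K] in
/-- The pulled back short exact sequence. -/
theorem pull_shortExact {X : Scheme.{u}} (t : X ⟶ P) (hS : (ShortComplex.mk f g w).ShortExact) :
    (ShortComplex.mk ((EtCoh.pull t).map f) ((EtCoh.pull t).map g) (pull_w t w)).ShortExact := by
  have := FinFr.pullExact_out t
  exact hS.map_of_exact (EtCoh.pull t)

/-- The connecting map `H^n(P_K, L₃) → H^(n+1)(P_K, L₁)`. -/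
noncomputable def connK (hS : (ShortComplex.mk f g w).ShortExact) (hf : Equi L₁.act L₂.act f)
    (hg : Equi L₂.act L₃.act g) (n : ℕ) : HK K b L₃ n →ₗ[Λ] HK K b L₁ (n + 1) :=
  connL (L₁ := EtLam.pullback (FinFr.extπ K b) L₁) (L₂ := EtLam.pullback (FinFr.extπ K b) L₂)
      (L₃ := EtLam.pullback (FinFr.extπ K b) L₃) (pull_shortExact (FinFr.extπ K b) hS) (equi_pull _ hf)
      (equi_pull _ hg) n

omit [Fintype k] [Algebra.IsAlgebraic k K] in
theorem connK_apply (hS : (ShortComplex.mk f g w).ShortExact) (hf : Equi L₁.act L₂.act f)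
    (hg : Equi L₂.act L₃.act g) (n : ℕ) (x : HK K b L₃ n) :
    connK K b hS hf hg n x = connH (L₁ := EtLam.pullback (FinFr.extπ K b) L₁)
      (L₂ := EtLam.pullback (FinFr.extπ K b) L₂)
      (L₃ := EtLam.pullback (FinFr.extπ K b) L₃) (pull_shortExact (FinFr.extπ K b) hS) n x := rfl

theorem frobK_connK (hS : (ShortComplex.mk f g w).ShortExact) (hf : Equi L₁.act L₂.act f)
    (hg : Equi L₂.act L₃.act g) (n : ℕ) (x : HK K b L₃ n) :
    connK K b hS hf hg n (frobK K b L₃ n x) = frobK K b L₁ (n + 1) (connK K b hS hf hg n x) := by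
  have := FinFr.pullExact_out (FinFr.galAct b (FinFr.arith k K).symm)
  have hS' := pull_shortExact (FinFr.extπ K b) hS
  have hS'' : (ShortComplex.mk ((EtCoh.pull (FinFr.galAct b (FinFr.arith k K).symm)).map
      ((EtCoh.pull (FinFr.extπ K b)).map f))
      ((EtCoh.pull (FinFr.galAct b (FinFr.arith k K).symm)).map ((EtCoh.pull (FinFr.extπ K b)).map g))
      (by rw [← Functor.map_comp, pull_w _ w, Functor.map_zero])).ShortExact :=
    hS'.map_of_exact (EtCoh.pull (FinFr.galAct b (FinFr.arith k K).symm))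
  rw [frobK_eq, frobK_eq, connK_apply, connK_apply]
  let σ := FinFr.galAct b (FinFr.arith k K).symm
  let e := FinFr.extπ K b
  have h1 := pullH_connH σ (L₁ := EtLam.pullback (FinFr.extπ K b) L₁)
    (L₂ := EtLam.pullback (FinFr.extπ K b) L₂) (L₃ := EtLam.pullback (FinFr.extπ K b) L₃)
    hS' _ hS'' n x
  let φ : ShortComplex.mk ((EtCoh.pull σ).map ((EtCoh.pull e).map f))
      ((EtCoh.pull σ).map ((EtCoh.pull e).map g)) (by rw [← Functor.map_comp, pull_w _ w, Functor.map_zero]) ⟶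
      ShortComplex.mk ((EtCoh.pull e).map f) ((EtCoh.pull e).map g) (pull_w e w) :=
    { τ₁ := th σ e e (FinFr.galAct_fst b _) L₁.carrier
      τ₂ := th σ e e (FinFr.galAct_fst b _) L₂.carrier
      τ₃ := th σ e e (FinFr.galAct_fst b _) L₃.carrier
      comm₁₂ := (th_nat σ e e (FinFr.galAct_fst b _) f).symm
      comm₂₃ := (th_nat σ e e (FinFr.galAct_fst b _) g).symm }
  have h2 := postH_connH (L₁ := EtLam.pullback σ (EtLam.pullback e L₁))
    (L₂ := EtLam.pullback σ (EtLam.pullback e L₂)) (L₃ := EtLam.pullback σ (EtLam.pullback e L₃))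
    (L₁' := EtLam.pullback e L₁) (L₂' := EtLam.pullback e L₂) (L₃' := EtLam.pullback e L₃)
    hS'' hS' φ n (pullH σ (EtLam.pullback e L₃) n x)
  exact h2.symm.trans (congrArg (thH σ e e (FinFr.galAct_fst b _) L₁ (n + 1)) h1.symm)

end Ring

section Field

variable {Λ : Type} [Field Λ] {A : Type w} [AddCommGroup A] (χ : Inv.{u + 1} Λ A)
  {L₁ L₂ L₃ : EtLam.Sheaf Λ P} {f : L₁.carrier ⟶ L₂.carrier} {g : L₂.carrier ⟶ L₃.carrier} {w : f ≫ g = 0}

/-- Additivity of the global side, with finiteness and vanishing as hypotheses. -/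
theorem glob_add (hS : (ShortComplex.mk f g w).ShortExact) (hf : Equi L₁.act L₂.act f)
    (hg : Equi L₂.act L₃.act g)
    (h₁ : ∀ n, FiniteDimensional Λ (HK K b L₁ n)) (h₂ : ∀ n, FiniteDimensional Λ (HK K b L₂ n))
    (h₃ : ∀ n, FiniteDimensional Λ (HK K b L₃ n)) (m : ℕ) (v₁ : ∀ n, m ≤ n → Subsingleton (HK K b L₁ n))
    (v₂ : ∀ n, m ≤ n → Subsingleton (HK K b L₂ n)) (v₃ : ∀ n, m ≤ n → Subsingleton (HK K b L₃ n)) :
    glob K χ b L₂ = glob K χ b L₁ + glob K χ b L₃ := by
  have hS' := pull_shortExact (FinFr.extπ K b) hS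
  exact Inv.alt_les χ (HK K b L₁) (HK K b L₂) (HK K b L₃) (fun n => mapK K b f hf n) (fun n => mapK K b g hg n)
    (fun n => connK K b hS hf hg n) (fun n => frobK K b L₁ n) (fun n => frobK K b L₂ n)
    (fun n => frobK K b L₃ n) (fun n x => frobK_mapK K b f hf n x) (fun n x => frobK_mapK K b g hg n x)
    (fun n x => frobK_connK K b hS hf hg n x)
    (postL_injective (L₁ := EtLam.pullback (FinFr.extπ K b) L₁) (L₂ := EtLam.pullback (FinFr.extπ K b) L₂)
      (L₃ := EtLam.pullback (FinFr.extπ K b) L₃) hS' (equi_pull _ hf))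
    (fun n => exact_fg' (L₁ := EtLam.pullback (FinFr.extπ K b) L₁) (L₂ := EtLam.pullback (FinFr.extπ K b) L₂)
      (L₃ := EtLam.pullback (FinFr.extπ K b) L₃) hS' (equi_pull _ hf) (equi_pull _ hg) n)
    (fun n => exact_gd' (L₁ := EtLam.pullback (FinFr.extπ K b) L₁) (L₂ := EtLam.pullback (FinFr.extπ K b) L₂)
      (L₃ := EtLam.pullback (FinFr.extπ K b) L₃) hS' (equi_pull _ hf) (equi_pull _ hg) n)
    (fun n => exact_df' (L₁ := EtLam.pullback (FinFr.extπ K b) L₁) (L₂ := EtLam.pullback (FinFr.extπ K b) L₂)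
      (L₃ := EtLam.pullback (FinFr.extπ K b) L₃) hS' (equi_pull _ hf) (equi_pull _ hg) n)
    m v₁ v₂ v₃

/-- Additivity of `χ` in degree zero when `H^1(P_K, L₁) = 0`. -/
theorem val_zero_add (hS : (ShortComplex.mk f g w).ShortExact) (hf : Equi L₁.act L₂.act f)
    (hg : Equi L₂.act L₃.act g) (h₂ : FiniteDimensional Λ (HK K b L₂ 0)) (v₁ : Subsingleton (HK K b L₁ 1)) :
    χ.val (HK K b L₂ 0) (frobK K b L₂ 0) =
      χ.val (HK K b L₁ 0) (frobK K b L₁ 0) + χ.val (HK K b L₃ 0) (frobK K b L₃ 0) := by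
  have hS' := pull_shortExact (FinFr.extπ K b) hS
  have e1 := exact_fg' (L₁ := EtLam.pullback (FinFr.extπ K b) L₁) (L₂ := EtLam.pullback (FinFr.extπ K b) L₂)
      (L₃ := EtLam.pullback (FinFr.extπ K b) L₃) hS' (equi_pull _ hf) (equi_pull _ hg) 0
  have e2 := exact_gd' (L₁ := EtLam.pullback (FinFr.extπ K b) L₁) (L₂ := EtLam.pullback (FinFr.extπ K b) L₂)
      (L₃ := EtLam.pullback (FinFr.extπ K b) L₃) hS' (equi_pull _ hf) (equi_pull _ hg) 0
  refine χ.exact (HK K b L₁ 0) (HK K b L₂ 0) (HK K b L₃ 0) (mapK K b f hf 0) (mapK K b g hg 0)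
    (frobK K b L₁ 0) (frobK K b L₂ 0) (frobK K b L₃ 0)
    (postL_injective (L₁ := EtLam.pullback (FinFr.extπ K b) L₁) (L₂ := EtLam.pullback (FinFr.extπ K b) L₂)
      (L₃ := EtLam.pullback (FinFr.extπ K b) L₃) hS' (equi_pull _ hf)) ?_ e1
    (LinearMap.ext fun x => frobK_mapK K b f hf 0 x) (LinearMap.ext fun x => frobK_mapK K b g hg 0 x)
  intro y
  exact (e2 y).1 (Subsingleton.elim _ _)

end Field

end Frob

end Groth.Agent.Sga4h.H925.GlobAdd
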