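/-
The set of closed points of degree `≤ N` is finite.
-/
import Groth.Agent.Sga4h.H911.FixFin
import Groth.Agent.Sga4h.H616.RatDeg

set_option autoImplicit false
set_option linter.dupNamespace false

universe u

open CategoryTheory CategoryTheory.Limits AlgebraicGeometry Opposite

namespace Groth.Agent.Sga4h.H925.PtsFin

open Groth.Agent.Sga4h.H911

theorem finite_le {k : Type u} [Field k] [Fintype k] {P : Scheme.{u}} (b : P ⟶ Spec (CommRingCat.of k))
    [LocallyOfFiniteType b] [QuasiCompact b] (N : ℕ) :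
    Finite {x : FinFr.ClosedPt P // FinFr.ptDeg b x.1 ≤ N} := by
  have h1 : ∀ d : ℕ, 0 < d → Finite (PtCount.ClosedDeg k b d) := fun d hd =>
    PtCount.finite_closedDeg k (AlgebraicClosure k) b
      (fun n hn => FixFin.finite_fixPts k (AlgebraicClosure k) b hn) hd
  have h2 : ∀ d : {d : Fin (N + 1) // 0 < d.1}, Finite (PtCount.ClosedDeg k b d.1.1) := fun d => h1 _ d.2
  let f : {x : FinFr.ClosedPt P // FinFr.ptDeg b x.1 ≤ N} →
      Σ d : {d : Fin (N + 1) // 0 < d.1}, PtCount.ClosedDeg k b d.1.1 := fun x =>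
    ⟨⟨⟨FinFr.ptDeg b x.1.1, Nat.lt_succ_of_le x.2⟩, H616.RatDeg.ptDeg_pos b x.1.1 x.1.2⟩, ⟨x.1, rfl⟩⟩
  refine Finite.of_injective f fun x y h => ?_
  have h3 : x.1.1 = y.1.1 := congrArg (fun s : Σ d : {d : Fin (N + 1) // 0 < d.1}, PtCount.ClosedDeg k b d.1.1 =>
    s.2.1.1) h
  exact Subtype.ext (Subtype.ext h3)

/-- `Spec κ(x)` is finite over `k` for a closed point `x`. -/
theorem isFinite_pt {k : Type u} [Field k] [Fintype k] {P : Scheme.{u}} (b : P ⟶ Spec (CommRingCat.of k))
    [LocallyOfFiniteType b] (x : P) (hx : IsClosed ({x} : Set P)) : IsFinite (P.fromSpecResidueField x ≫ b) := by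
  letI := PtCount.resAlg k b x
  have h := H616.RatDeg.finite_resAlg b x hx
  rw [← PtCount.specMap_resHom, IsFinite.SpecMap_iff]
  have h2 : (algebraMap k (P.residueField x)).Finite := RingHom.finite_algebraMap.2 h
  exact h2

end Groth.Agent.Sga4h.H925.PtsFin
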