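/-
Additivity of the local side and of the defect, vanishing on zero sheaves.
-/
import Groth.Agent.Sga4h.H616.FinVan
import Groth.Agent.Sga4h.H925.GlobAdd
import Groth.Agent.Sga4h.H925.PtsFin
import Groth.Agent.Etrest.SHPoint
import Groth.Agent.Etrest.HPush

set_option autoImplicit false
set_option linter.dupNamespace false

universe u v w w'

open CategoryTheory CategoryTheory.Limits AlgebraicGeometry Opposite

namespace Groth.Agent.Sga4h.H925.LocAdd

open Groth.Agent.Sga4h.H925.Inv Groth.Agent.Sga4h.H925.Defs Groth.Agent.Sga4h.H925.GlobAdd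
open Groth.Agent.Sga4h.H925.HPullH Groth.Agent.Sga4h.H616.FinVan
open Groth.Agent.Etcore.LamFG

variable {k : Type u} [Field k] [Fintype k] (K : Type u) [Field K] [Algebra k K] [Algebra.IsAlgebraic k K]
  [Fact FinFr.PullExact.{u}] [IsSepClosed K] {Λ : Type} [Field Λ] [Finite Λ] {A : Type w} [AddCommGroup A]
  (χ : Inv.{u + 1} Λ A) {P : Scheme.{u}} (b : P ⟶ Spec (CommRingCat.of k))
  {L₁ L₂ L₃ : EtLam.Sheaf Λ P} {f : L₁.carrier ⟶ L₂.carrier} {g : L₂.carrier ⟶ L₃.carrier} {w : f ≫ g = 0}

omit [Fintype k] [Algebra.IsAlgebraic k K] [Fact FinFr.PullExact.{u}] [Finite Λ] in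
/-- Vanishing in positive degrees for `P` finite over `k`. -/
theorem subsingleton_HK_of_isFinite [IsFinite b] (L : EtLam.Sheaf Λ P) (n : ℕ) (hn : 0 < n) :
    Subsingleton (HK K b L n) := by
  have h1 : IsFinite (FinFr.extStr K b) := inferInstance
  obtain ⟨e⟩ := Groth.Agent.Etrest.HPush.nonempty_HPushEquiv_of_isFinite (FinFr.extStr K b)
    ((EtCoh.pull (FinFr.extπ K b)).obj L.carrier) n
  have := Groth.Agent.Etrest.SHPoint.subsingleton_H_of_sepClosed K
    ((EtCoh.push (FinFr.extStr K b)).obj ((EtCoh.pull (FinFr.extπ K b)).obj L.carrier)) n hn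
  exact e.toEquiv.subsingleton

/-- Additivity of the global side. -/
theorem glob_add' [IsProper b] (hS : (ShortComplex.mk f g w).ShortExact) (hf : Equi L₁.act L₂.act f)
    (hg : Equi L₂.act L₃.act g) (h₁ : EtPBC.IsConstructible L₁.carrier) (h₂ : EtPBC.IsConstructible L₂.carrier)
    (h₃ : EtPBC.IsConstructible L₃.carrier) :
    glob K χ b L₂ = glob K χ b L₁ + glob K χ b L₃ := by
  obtain ⟨m, hm⟩ := exists_subsingleton_HK K Λ b
  exact glob_add K b χ hS hf hg (fun n => finite_module_HK K b L₁ h₁ n) (fun n => finite_module_HK K b L₂ h₂ n)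
    (fun n => finite_module_HK K b L₃ h₃ n) m (fun n hn => hm n hn L₁) (fun n hn => hm n hn L₂)
    (fun n hn => hm n hn L₃)

/-- Additivity of the local terms at closed points. -/
theorem locV_add [LocallyOfFiniteType b] (hS : (ShortComplex.mk f g w).ShortExact) (hf : Equi L₁.act L₂.act f)
    (hg : Equi L₂.act L₃.act g) (h₂ : EtPBC.IsConstructible L₂.carrier) (x : P) (hx : IsClosed ({x} : Set P)) :
    locV K χ b x L₂ = locV K χ b x L₁ + locV K χ b x L₃ := by
  have hfin : IsFinite (P.fromSpecResidueField x ≫ b) := PtsFin.isFinite_pt b x hx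
  exact val_zero_add K (P.fromSpecResidueField x ≫ b) χ
    (L₁ := EtLam.pullback (P.fromSpecResidueField x) L₁) (L₂ := EtLam.pullback (P.fromSpecResidueField x) L₂)
    (L₃ := EtLam.pullback (P.fromSpecResidueField x) L₃)
    (pull_shortExact (P.fromSpecResidueField x) hS) (equi_pull _ hf) (equi_pull _ hg)
    (finite_module_HK K (P.fromSpecResidueField x ≫ b) (EtLam.pullback (P.fromSpecResidueField x) L₂)
      (Groth.Agent.S0127.result _ _ h₂) 0)
    (subsingleton_HK_of_isFinite K _ _ 1 one_pos)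

/-- Additivity of the local side. -/
theorem loc_add [LocallyOfFiniteType b] [QuasiCompact b] (hS : (ShortComplex.mk f g w).ShortExact)
    (hf : Equi L₁.act L₂.act f) (hg : Equi L₂.act L₃.act g) (h₂ : EtPBC.IsConstructible L₂.carrier) (N : ℕ) :
    loc K χ b N L₂ = loc K χ b N L₁ + loc K χ b N L₃ := by
  have hfin := PtsFin.finite_le b N
  unfold loc
  rw [← finsum_add_distrib (Set.toFinite _) (Set.toFinite _)]
  exact finsum_congr fun x => locV_add K χ b hS hf hg h₂ x.1.1 x.1.2

/-- (G1) + (G2): additivity of the defect. -/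
theorem defect_add [IsProper b] (hS : (ShortComplex.mk f g w).ShortExact) (hf : Equi L₁.act L₂.act f)
    (hg : Equi L₂.act L₃.act g) (h₁ : EtPBC.IsConstructible L₁.carrier) (h₂ : EtPBC.IsConstructible L₂.carrier)
    (h₃ : EtPBC.IsConstructible L₃.carrier) (N : ℕ) :
    defect K χ b N L₂ = defect K χ b N L₁ + defect K χ b N L₃ := by
  unfold defect
  rw [glob_add' K χ b hS hf hg h₁ h₂ h₃, loc_add K χ b hS hf hg h₂ N]
  abel

omit [Fintype k] [Algebra.IsAlgebraic k K] [Fact FinFr.PullExact.{u}] [IsSepClosed K] [Finite Λ] in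
theorem subsingleton_HK_of_isZero (L : EtLam.Sheaf Λ P) (h : IsZero L.carrier) (n : ℕ) :
    Subsingleton (HK K b L n) :=
  Sheaf.subsingleton_H_of_isZero (Functor.map_isZero (EtCoh.pull (FinFr.extπ K b)) h) n

omit [IsSepClosed K] [Finite Λ] in
/-- The defect of the zero sheaf. -/
theorem defect_zero (L : EtLam.Sheaf Λ P) (h : IsZero L.carrier) (N : ℕ) : defect K χ b N L = 0 := by
  have h1 : glob K χ b L = 0 := by
    unfold glob
    rw [χ.alt_eq_sum (fun i => HK K b L i) (fun i => frobK K b L i) 0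
      (fun n _ => subsingleton_HK_of_isZero K b L h n), Finset.range_zero, Finset.sum_empty]
  have h2 : loc K χ b N L = 0 := by
    unfold loc
    refine finsum_eq_zero_of_forall_eq_zero fun x => ?_
    have := subsingleton_HK_of_isZero K (P.fromSpecResidueField x.1.1 ≫ b)
      (EtLam.pullback (P.fromSpecResidueField x.1.1) L)
      (Functor.map_isZero (EtCoh.pull (P.fromSpecResidueField x.1.1)) h) 0
    exact χ.val_subsingleton _ _
  unfold defect
  rw [h1, h2, sub_zero]

end Groth.Agent.Sga4h.H925.LocAdd
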