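/-
From the vanishing of the defect of `detInvN` to the coefficientwise L-function identity.
-/
import Groth.Agent.Sga4h.H925.Defs
import Mathlib.Algebra.Ring.Parity

set_option autoImplicit false
set_option linter.dupNamespace false

universe u v w w'

open CategoryTheory CategoryTheory.Limits AlgebraicGeometry Opposite

namespace Groth.Agent.Sga4h.H925.LFOf

open Groth.Agent.Sga4h.H925.Inv Groth.Agent.Sga4h.H925.DetInv Groth.Agent.Sga4h.H925.Defs
open Polynomial

variable {Λ : Type} [Field Λ]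

/-- Two polynomials with constant term one whose units agree modulo `T^(N+1)` have the same low coefficients. -/
theorem coeff_eq_of_trMap {N : ℕ} {f g : Λ[X]} (hf : f.coeff 0 = 1) (hg : g.coeff 0 = 1)
    (h : trMap Λ N (Additive.ofMul (psUnit f)) = trMap Λ N (Additive.ofMul (psUnit g))) (m : ℕ) (hm : m ≤ N) :
    f.coeff m = g.coeff m := by
  have h1 : (Ideal.Quotient.mk (Ideal.span {(PowerSeries.X : PowerSeries Λ) ^ (N + 1)})) (f : PowerSeries Λ) =
      (Ideal.Quotient.mk (Ideal.span {(PowerSeries.X : PowerSeries Λ) ^ (N + 1)})) (g : PowerSeries Λ) := by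
    have h2 := congrArg (fun t : Additive (TrRing Λ N)ˣ => ((Additive.toMul t : (TrRing Λ N)ˣ) : TrRing Λ N)) h
    change (Ideal.Quotient.mk (Ideal.span {(PowerSeries.X : PowerSeries Λ) ^ (N + 1)})) (psUnit f : PowerSeries Λ) =
      (Ideal.Quotient.mk (Ideal.span {(PowerSeries.X : PowerSeries Λ) ^ (N + 1)})) (psUnit g : PowerSeries Λ) at h2
    rwa [val_psUnit hf, val_psUnit hg] at h2
  rw [Ideal.Quotient.eq, Ideal.mem_span_singleton, PowerSeries.X_pow_dvd_iff] at h1
  have h3 := h1 m (by omega)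
  rw [map_sub, Polynomial.coeff_coe, Polynomial.coeff_coe, sub_eq_zero] at h3
  exact h3

/-- The determinants `D_i`, `i < m₀`: alternating product in terms of even and odd products. -/
theorem alt_eq (V : ℕ → Type v) [∀ n, AddCommGroup (V n)] [∀ n, Module Λ (V n)]
    (φ : ∀ n, V n →ₗ[Λ] V n) (m₀ : ℕ) (hm₀ : ∀ n, m₀ ≤ n → Subsingleton (V n)) (N : ℕ) :
    (detInvN Λ N).alt V φ + trMap Λ N (Additive.ofMul (psUnit (∏ᶠ i : {i : ℕ // Odd i}, FinFr.charRev (φ i.1)))) =
      trMap Λ N (Additive.ofMul (psUnit (∏ᶠ i : {i : ℕ // Even i}, FinFr.charRev (φ i.1)))) ∧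
    (∏ᶠ i : {i : ℕ // Odd i}, FinFr.charRev (φ i.1)).coeff 0 = 1 ∧
    (∏ᶠ i : {i : ℕ // Even i}, FinFr.charRev (φ i.1)).coeff 0 = 1 := by
  classical
  have hone : ∀ n, m₀ ≤ n → FinFr.charRev (φ n) = 1 := by
    intro n hn
    have := hm₀ n hn
    have : Subsingleton (TensorProduct Λ Λ[X] (V n)) := inferInstance
    rw [FinFr.charRev]
    have h0 : LinearMap.id - (X : Λ[X]) • (φ n).baseChange Λ[X] =
        (LinearMap.id : TensorProduct Λ Λ[X] (V n) →ₗ[Λ[X]] TensorProduct Λ Λ[X] (V n)) :=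
      LinearMap.ext fun x => Subsingleton.elim _ _
    rw [h0, LinearMap.det_id]
  have hfin : ∀ (p : ℕ → Prop) [DecidablePred p], (∏ᶠ i : {i : ℕ // p i}, FinFr.charRev (φ i.1)) =
      ∏ i ∈ (Finset.range m₀).filter p, FinFr.charRev (φ i) := by
    intro p _
    rw [finprod_subtype_eq_finprod_cond (f := fun i => FinFr.charRev (φ i)) (p := p)]
    rw [finprod_cond_eq_prod_of_cond_iff (t := (Finset.range m₀).filter p)]
    intro i hi
    rw [Finset.mem_filter, Finset.mem_range]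
    constructor
    · intro hp
      refine ⟨?_, hp⟩
      by_contra hlt
      exact hi (hone i (not_lt.1 hlt))
    · exact fun h => h.2
  rw [hfin, hfin]
  have hpr : ∀ s : Finset ℕ, psUnit (∏ i ∈ s, FinFr.charRev (φ i)) = ∏ i ∈ s, psUnit (FinFr.charRev (φ i)) ∧
      (∏ i ∈ s, FinFr.charRev (φ i)).coeff 0 = 1 := fun s =>
    psUnit_prod s _ fun i _ => coeff_zero_charRev _
  refine ⟨?_, (hpr _).2, (hpr _).2⟩
  rw [(hpr _).1, (hpr _).1, Inv.alt_eq_sum _ _ _ m₀ hm₀, ofMul_prod, ofMul_prod, map_sum, map_sum]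
  have hval : ∀ i, (detInvN Λ N).val (V i) (φ i) = trMap Λ N (Additive.ofMul (psUnit (FinFr.charRev (φ i)))) := by
    intro i
    rw [detInvN, mapInv_val, detInv_one_val]
  simp only [hval]
  rw [Finset.sum_filter, Finset.sum_filter, ← Finset.sum_add_distrib]
  refine Finset.sum_congr rfl fun i _ => ?_
  rcases Nat.even_or_odd i with hi | hi
  · rw [if_neg (Nat.not_odd_iff_even.2 hi), if_pos hi, hi.neg_one_pow, one_smul, add_zero]
  · rw [if_pos hi, if_neg (Nat.not_even_iff_odd.2 hi), hi.neg_one_pow, neg_smul, one_smul, neg_add_cancel]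

variable {k : Type u} [Field k] [Fintype k] (K : Type u) [Field K] [Algebra k K] [Algebra.IsAlgebraic k K]
  [Fact FinFr.PullExact.{u}] {P : Scheme.{u}} (b : P ⟶ Spec (CommRingCat.of k))

/-- The L-function identity modulo `T^(N+1)` from the vanishing of the defect. -/
theorem LF_of_defect (M : EtLam.Sheaf Λ P) (N m₀ : ℕ) (hm₀ : ∀ i, m₀ ≤ i → Subsingleton (HK K b M i))
    (hfin : Finite {x : FinFr.ClosedPt P // FinFr.ptDeg b x.1 ≤ N})
    (hloc : ∀ x : P, IsClosed ({x} : Set P) →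
      FinFr.charRev (frobK K (P.fromSpecResidueField x ≫ b) (EtLam.pullback (P.fromSpecResidueField x) M) 0) =
        FinFr.locFactor b x M)
    (h : defect K (detInvN Λ N) b N M = 0) : LF K b M N := by
  classical
  obtain ⟨h1, h2, h3⟩ := alt_eq (fun i => HK K b M i) (fun i => frobK K b M i) m₀ hm₀ N
  have := Fintype.ofFinite {x : FinFr.ClosedPt P // FinFr.ptDeg b x.1 ≤ N}
  have hl1 : ∀ x : {x : FinFr.ClosedPt P // FinFr.ptDeg b x.1 ≤ N}, (FinFr.locFactor b x.1.1 M).coeff 0 = 1 := by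
    intro x
    rw [← hloc x.1.1 x.1.2]
    exact coeff_zero_charRev _
  have hloc' : loc K (detInvN Λ N) b N M = trMap Λ N (Additive.ofMul (psUnit
      (∏ᶠ x : {x : FinFr.ClosedPt P // FinFr.ptDeg b x.1 ≤ N}, FinFr.locFactor b x.1.1 M))) := by
    rw [loc, finsum_eq_sum_of_fintype, finprod_eq_prod_of_fintype,
      (psUnit_prod _ _ fun x _ => hl1 x).1, ofMul_prod, map_sum]
    refine Finset.sum_congr rfl fun x _ => ?_
    rw [locV, detInvN, mapInv_val, detInv_one_val, hloc x.1.1 x.1.2]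
  have hl2 : (∏ᶠ x : {x : FinFr.ClosedPt P // FinFr.ptDeg b x.1 ≤ N}, FinFr.locFactor b x.1.1 M).coeff 0 = 1 := by
    rw [finprod_eq_prod_of_fintype]
    exact (psUnit_prod _ _ fun x _ => hl1 x).2
  intro m hm
  change (((∏ᶠ i : {i : ℕ // Odd i}, FinFr.charRev (frobK K b M i.1)) *
      ∏ᶠ x : {x : FinFr.ClosedPt P // FinFr.ptDeg b x.1 ≤ N}, FinFr.locFactor b x.1.1 M)).coeff m =
    (∏ᶠ i : {i : ℕ // Even i}, FinFr.charRev (frobK K b M i.1)).coeff m
  refine coeff_eq_of_trMap (by rw [mul_coeff_zero, h2, hl2, one_mul]) h3 ?_ m hm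
  rw [psUnit_mul h2 hl2, ofMul_mul, map_add, ← hloc', ← h1,
    show loc K (detInvN Λ N) b N M = glob K (detInvN Λ N) b M from (sub_eq_zero.1 h).symm]
  exact add_comm (G := Additive (TrRing Λ N)ˣ) _ _

end Groth.Agent.Sga4h.H925.LFOf
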