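/-
The determinant trick of Anderson and Taelman: let `R` be a commutative ring acting on an `A`-module `Q` with a
`q`-Frobenius semilinear nilpotent (in the variable) operator `T` (`T b = b^q T`, `T^D = 0`) and a decreasing filtration
`F a` with finite free quotients such that `R` acts by operators of bounded order and `T (F a) ⊆ F (q a)`.  If for all
`1 ≤ n < D` the elements `b^(q^n) - b` (`b ∈ R`) generate the unit ideal, then `det(1 - T | Q / F a) = 1`.
-/
import Mathlib.LinearAlgebra.Determinant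
import Mathlib.LinearAlgebra.Matrix.SchurComplement
import Mathlib.RingTheory.Ideal.Span
import Mathlib.Algebra.Algebra.Operations
import Mathlib.Algebra.Ring.GeomSum
import Mathlib.LinearAlgebra.Quotient.Basic
import Mathlib.Tactic.NoncommRing

set_option autoImplicit false
set_option linter.dupNamespace false

namespace Groth.Agent.Sga4h.H925.AT

section Sylvester

variable {A V W : Type*} [CommRing A] [AddCommGroup V] [Module A V] [AddCommGroup W] [Module A W]
  [Module.Free A V] [Module.Finite A V] [Module.Free A W] [Module.Finite A W]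

/-- Weinstein–Aronszajn identity for linear maps. -/
theorem det_id_sub_comp_comm (u : V →ₗ[A] W) (w : W →ₗ[A] V) :
    LinearMap.det (LinearMap.id - w ∘ₗ u) = LinearMap.det (LinearMap.id - u ∘ₗ w) := by
  classical
  let b := Module.Free.chooseBasis A V
  let c := Module.Free.chooseBasis A W
  rw [← LinearMap.det_toMatrix b, ← LinearMap.det_toMatrix c, map_sub, map_sub, LinearMap.toMatrix_id,
    LinearMap.toMatrix_id, LinearMap.toMatrix_comp b c b, LinearMap.toMatrix_comp c b c,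
    Matrix.det_one_sub_mul_comm]

end Sylvester

variable {A Q : Type*} [CommRing A] [AddCommGroup Q] [Module A Q] (F : ℕ → Submodule A Q)

/-- `ψ` has determinant `d` on `Q / F a` for all large `a`. -/
def HasDet (ψ : Q →ₗ[A] Q) (d : A) : Prop :=
  ∃ a₀, ∀ a, a₀ ≤ a → ∃ h : F a ≤ (F a).comap ψ, LinearMap.det ((F a).mapQ (F a) ψ h) = d

variable {F}

theorem HasDet.unique {ψ : Q →ₗ[A] Q} {d d' : A} (h : HasDet F ψ d) (h' : HasDet F ψ d') : d = d' := by
  obtain ⟨a, ha⟩ := h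
  obtain ⟨b, hb⟩ := h'
  obtain ⟨h₁, h₂⟩ := ha (max a b) (le_max_left _ _)
  obtain ⟨_, h₄⟩ := hb (max a b) (le_max_right _ _)
  rw [← h₂, ← h₄]

theorem HasDet.one : HasDet F (1 : Q →ₗ[A] Q) 1 :=
  ⟨0, fun a _ => ⟨fun x hx => hx, by
    have : (F a).mapQ (F a) (1 : Q →ₗ[A] Q) (fun x hx => hx) = LinearMap.id := by
      ext x; rfl
    rw [this, LinearMap.det_id]⟩⟩

theorem HasDet.mul {ψ ψ' : Q →ₗ[A] Q} {d d' : A} (h : HasDet F ψ d) (h' : HasDet F ψ' d') :
    HasDet F (ψ * ψ') (d * d') := by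
  obtain ⟨a₀, ha⟩ := h
  obtain ⟨b₀, hb⟩ := h'
  refine ⟨max a₀ b₀, fun a hab => ?_⟩
  obtain ⟨h₁, h₂⟩ := ha a ((le_max_left _ _).trans hab)
  obtain ⟨h₃, h₄⟩ := hb a ((le_max_right _ _).trans hab)
  refine ⟨fun x hx => h₁ (h₃ hx), ?_⟩
  have : (F a).mapQ (F a) (ψ * ψ') (fun x hx => h₁ (h₃ hx)) =
      (F a).mapQ (F a) ψ h₁ ∘ₗ (F a).mapQ (F a) ψ' h₃ := by
    ext x; rfl
  rw [this, LinearMap.det_comp, h₂, h₄]

variable (F) in
/-- Eventually `ν (F a) ⊆ F (a + 1)`. -/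
def Contr (ν : Q →ₗ[A] Q) : Prop := ∃ a₀, ∀ a, a₀ ≤ a → ∀ x ∈ F a, ν x ∈ F (a + 1)

variable (F) in
/-- `v (F (a + c)) ⊆ F a` for some constant `c`. -/
def Bdd (v : Q →ₗ[A] Q) : Prop := ∃ c, ∀ a, ∀ x ∈ F (a + c), v x ∈ F a

theorem Contr.add {ν ν' : Q →ₗ[A] Q} (h : Contr F ν) (h' : Contr F ν') : Contr F (ν + ν') := by
  obtain ⟨a₀, ha⟩ := h
  obtain ⟨b₀, hb⟩ := h'
  exact ⟨max a₀ b₀, fun a hab x hx => (F (a + 1)).add_mem (ha a ((le_max_left _ _).trans hab) x hx)
    (hb a ((le_max_right _ _).trans hab) x hx)⟩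

theorem Contr.zero : Contr F (0 : Q →ₗ[A] Q) := ⟨0, fun a _ _ _ => (F (a + 1)).zero_mem⟩

theorem Contr.smul {ν : Q →ₗ[A] Q} (h : Contr F ν) (s : ℤ) : Contr F (s • ν) := by
  obtain ⟨a₀, ha⟩ := h
  exact ⟨a₀, fun a hab x hx => zsmul_mem (ha a hab x hx) s⟩

section Det

variable [∀ a, Module.Free A (Q ⧸ F a)] [∀ a, Module.Finite A (Q ⧸ F a)]

theorem det_mapQ_succ (hF : Antitone F) (ν : Q →ₗ[A] Q) (a : ℕ) (hν : ∀ x ∈ F a, ν x ∈ F (a + 1))
    (h₁ : F a ≤ (F a).comap (1 - ν)) (h₂ : F (a + 1) ≤ (F (a + 1)).comap (1 - ν)) :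
    LinearMap.det ((F (a + 1)).mapQ (F (a + 1)) (1 - ν) h₂) =
      LinearMap.det ((F a).mapQ (F a) (1 - ν) h₁) := by
  have hle : F (a + 1) ≤ F a := hF (Nat.le_succ a)
  let p : (Q ⧸ F (a + 1)) →ₗ[A] (Q ⧸ F a) := (F (a + 1)).mapQ (F a) LinearMap.id hle
  let w : (Q ⧸ F a) →ₗ[A] (Q ⧸ F (a + 1)) := (F a).mapQ (F (a + 1)) ν hν
  have e₁ : (F (a + 1)).mapQ (F (a + 1)) (1 - ν) h₂ = LinearMap.id - w ∘ₗ p := by
    ext x; rfl
  have e₂ : (F a).mapQ (F a) (1 - ν) h₁ = LinearMap.id - p ∘ₗ w := by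
    ext x; rfl
  rw [e₁, e₂, det_id_sub_comp_comm]

theorem exists_hasDet (hF : Antitone F) {ν : Q →ₗ[A] Q} (hν : Contr F ν) : ∃ d, HasDet F (1 - ν) d := by
  obtain ⟨a₀, ha⟩ := hν
  have hp : ∀ a, a₀ ≤ a → F a ≤ (F a).comap (1 - ν) := fun a haa x hx =>
    (F a).sub_mem hx (hF (Nat.le_succ a) (ha a haa x hx))
  refine ⟨LinearMap.det ((F a₀).mapQ (F a₀) (1 - ν) (hp a₀ le_rfl)), a₀, fun a haa => ⟨hp a haa, ?_⟩⟩
  induction a, haa using Nat.le_induction with
  | base => rfl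
  | succ a haa ih =>
    rw [det_mapQ_succ hF ν a (ha a haa) (hp a haa), ih]

/-- The commutation property. -/
theorem HasDet.comm (hF : Antitone F) {u v : Q →ₗ[A] Q} (hv : Bdd F v)
    (hu : ∀ c, ∃ a₀, ∀ a, a₀ ≤ a → ∀ x ∈ F a, u x ∈ F (a + c)) {d : A} (h : HasDet F (1 - v * u) d) :
    HasDet F (1 - u * v) d := by
  obtain ⟨c, hc⟩ := hv
  obtain ⟨a₁, ha₁⟩ := hu c
  obtain ⟨a₂, ha₂⟩ := hu (c + 1)
  obtain ⟨a₀, ha₀⟩ := h
  have hcontr : Contr F (u * v) := by
    refine ⟨a₂ + c, fun a haa x hx => ?_⟩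
    obtain ⟨b, rfl⟩ := Nat.exists_eq_add_of_le haa
    have hx' : v x ∈ F (a₂ + b) := hc (a₂ + b) x (by rwa [show a₂ + b + c = a₂ + c + b by omega])
    have := ha₂ (a₂ + b) (Nat.le_add_right _ _) _ hx'
    rwa [show a₂ + b + (c + 1) = a₂ + c + b + 1 by omega] at this
  obtain ⟨d', hd'⟩ := exists_hasDet hF hcontr
  have : d = d' := by
    obtain ⟨a', ha'⟩ := hd'
    let a := max a₀ (max a₁ a')
    obtain ⟨h₁, h₂⟩ := ha₀ a (le_max_left _ _)
    obtain ⟨h₃, h₄⟩ := ha' (a + c) (((le_max_right _ _).trans (le_max_right _ _)).trans (Nat.le_add_right a c))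
    have hu' : ∀ x ∈ F a, u x ∈ F (a + c) := ha₁ a ((le_max_left _ _).trans (le_max_right _ _))
    let u' : (Q ⧸ F a) →ₗ[A] (Q ⧸ F (a + c)) := (F a).mapQ (F (a + c)) u hu'
    let v' : (Q ⧸ F (a + c)) →ₗ[A] (Q ⧸ F a) := (F (a + c)).mapQ (F a) v (hc a)
    have e₁ : (F a).mapQ (F a) (1 - v * u) h₁ = LinearMap.id - v' ∘ₗ u' := by
      ext x; rfl
    have e₂ : (F (a + c)).mapQ (F (a + c)) (1 - u * v) h₃ = LinearMap.id - u' ∘ₗ v' := by
      ext x; rfl
    rw [← h₂, ← h₄, e₁, e₂, det_id_sub_comp_comm]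
  rw [this]
  exact hd'

end Det

section Main

variable {R : Type*} [CommRing R] (ρ : R →+* Module.End A Q) (T : Module.End A Q) (q : ℕ)

/-- The span of the operators `r T^i`, `i ≥ n`. -/
def NN (n : ℕ) : Submodule ℤ (Module.End A Q) :=
  Submodule.span ℤ {f | ∃ (r : R) (i : ℕ), n ≤ i ∧ f = ρ r * T ^ i}

variable {ρ T q}

theorem mem_NN {r : R} {i n : ℕ} (h : n ≤ i) : ρ r * T ^ i ∈ NN ρ T n :=
  Submodule.subset_span ⟨r, i, h, rfl⟩

theorem NN_anti {m n : ℕ} (h : m ≤ n) : NN ρ T n ≤ NN ρ T m :=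
  Submodule.span_mono fun _ ⟨r, i, hi, e⟩ => ⟨r, i, h.trans hi, e⟩

theorem pow_comm (hT : ∀ b, T * ρ b = ρ (b ^ q) * T) (n : ℕ) (b : R) : T ^ n * ρ b = ρ (b ^ q ^ n) * T ^ n := by
  induction n with
  | zero => simp
  | succ n ih => rw [pow_succ, mul_assoc, hT, ← mul_assoc, ih' b n hT ih, mul_assoc, ← pow_succ]
where
  ih' (b : R) (n : ℕ) (hT : ∀ b, T * ρ b = ρ (b ^ q) * T) (ih : T ^ n * ρ b = ρ (b ^ q ^ n) * T ^ n) :
      T ^ n * ρ (b ^ q) = ρ (b ^ q ^ (n + 1)) * T ^ n := by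
    rw [map_pow, map_pow]
    have : ∀ m : ℕ, T ^ n * ρ b ^ m = (ρ (b ^ q ^ n)) ^ m * T ^ n := by
      intro m
      induction m with
      | zero => simp
      | succ m ihm => rw [pow_succ, ← mul_assoc, ihm, mul_assoc, ih, ← mul_assoc, ← pow_succ]
    rw [this, map_pow, ← pow_mul, ← pow_succ]

theorem NN_mul (hT : ∀ b, T * ρ b = ρ (b ^ q) * T) (m n : ℕ) : NN ρ T m * NN ρ T n ≤ NN ρ T (m + n) := by
  rw [NN, NN, Submodule.span_mul_span, Submodule.span_le]
  rintro _ ⟨_, ⟨r, i, hi, rfl⟩, _, ⟨s, j, hj, rfl⟩, rfl⟩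
  have : ρ r * T ^ i * (ρ s * T ^ j) = ρ (r * s ^ q ^ i) * T ^ (i + j) := by
    rw [mul_assoc, ← mul_assoc (T ^ i), pow_comm hT, map_mul, pow_add]
    simp only [mul_assoc]
  change ρ r * T ^ i * (ρ s * T ^ j) ∈ _
  rw [this]
  exact mem_NN (add_le_add hi hj)

theorem NN_eq_bot {D : ℕ} (hD : T ^ D = 0) : NN ρ T D = ⊥ := by
  rw [NN, Submodule.span_eq_bot]
  rintro _ ⟨r, i, hi, rfl⟩
  obtain ⟨j, rfl⟩ := Nat.exists_eq_add_of_le hi
  rw [pow_add, hD, zero_mul, mul_zero]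

variable (hF : Antitone F) (hρ : ∀ b, Bdd F (ρ b)) (hq : 2 ≤ q) (hTF : ∀ a, ∀ x ∈ F a, T x ∈ F (q * a))

include hTF in
theorem T_pow_mem (n a : ℕ) (x : Q) (hx : x ∈ F a) : (T ^ n) x ∈ F (q ^ n * a) := by
  induction n generalizing a x with
  | zero => simpa using hx
  | succ n ih =>
    rw [pow_succ]
    have := ih (q * a) (T x) (hTF a x hx)
    rwa [← mul_assoc, ← pow_succ] at this

include hF hρ hq hTF in
theorem strong_contr (r : R) {n : ℕ} (hn : 1 ≤ n) (c : ℕ) :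
    ∃ a₀, ∀ a, a₀ ≤ a → ∀ x ∈ F a, (ρ r * T ^ n) x ∈ F (a + c) := by
  obtain ⟨c', hc'⟩ := hρ r
  refine ⟨c + c', fun a ha x hx => hc' (a + c) _ (hF ?_ (T_pow_mem hTF n a x hx))⟩
  have h1 : 2 ≤ q ^ n := hq.trans (Nat.le_self_pow (by omega) q)
  calc a + c + c' ≤ a + a := by omega
    _ = 2 * a := by ring
    _ ≤ q ^ n * a := Nat.mul_le_mul_right a h1

include hF hρ hq hTF in
theorem contr_of_mem {n : ℕ} (hn : 1 ≤ n) {ν : Module.End A Q} (hν : ν ∈ NN ρ T n) : Contr F ν := by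
  refine Submodule.span_induction (p := fun ν _ => Contr F ν) ?_ Contr.zero (fun _ _ _ _ => Contr.add)
    (fun s _ _ h => h.smul s) hν
  rintro _ ⟨r, i, hi, rfl⟩
  exact strong_contr hF hρ hq hTF r (hn.trans hi) 1

variable [∀ a, Module.Free A (Q ⧸ F a)] [∀ a, Module.Finite A (Q ⧸ F a)]

include hF hρ hq hTF in
theorem hasDet_one_sub {D : ℕ} (hD : T ^ D = 0) (hT : ∀ b, T * ρ b = ρ (b ^ q) * T)
    (hR : ∀ n, 1 ≤ n → n < D → Ideal.span (Set.range fun b : R => b ^ q ^ n - b) = ⊤) :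
    ∀ n, 1 ≤ n → ∀ ν ∈ NN ρ T n, HasDet F (1 - ν) 1 := by
  -- descending induction
  have key : ∀ k n, 1 ≤ n → D ≤ n + k → ∀ ν ∈ NN ρ T n, HasDet F (1 - ν) 1 := by
    intro k
    induction k with
    | zero =>
      intro n _ hn ν hν
      have : ν = 0 := by
        have h := NN_anti hn hν
        rwa [NN_eq_bot hD, Submodule.mem_bot] at h
      rw [this, sub_zero]
      exact HasDet.one
    | succ k ih =>
      intro n hn hnk
      by_cases hDn : D ≤ n
      · intro ν hν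
        exact ih n hn (by omega) ν hν
      have ih' : ∀ ν ∈ NN ρ T (n + 1), HasDet F (1 - ν) 1 := ih (n + 1) (by omega) (by omega)
      -- congruent elements have the same determinant
      have hcong : ∀ ν₁ ∈ NN ρ T n, ∀ ν₂ ∈ NN ρ T n, ν₁ - ν₂ ∈ NN ρ T (n + 1) → ∀ d,
          HasDet F (1 - ν₂) d → HasDet F (1 - ν₁) d := by
        intro ν₁ _ ν₂ h₂ h₁₂ d hd
        have hpow : ν₂ ^ D = 0 := by
          have hp : ∀ j, ν₂ ^ (j + 1) ∈ NN ρ T (j + 1) := by
            intro j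
            induction j with
            | zero => simpa using NN_anti hn h₂
            | succ j ihj =>
              rw [pow_succ]
              exact NN_mul hT _ _ (Submodule.mul_mem_mul ihj (NN_anti hn h₂))
          obtain ⟨D', rfl⟩ : ∃ D', D = D' + 1 := ⟨D - 1, by omega⟩
          have := hp D'
          rwa [NN_eq_bot hD, Submodule.mem_bot] at this
        let g := ∑ i ∈ Finset.range D, ν₂ ^ i
        have hg : (1 - ν₂) * g = 1 := by rw [mul_neg_geom_sum, hpow, sub_zero]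
        have hmem : g * (ν₁ - ν₂) ∈ NN ρ T (n + 1) := by
          rw [Finset.sum_mul]
          refine Submodule.sum_mem _ fun i _ => ?_
          have : ∀ i, ν₂ ^ i * (ν₁ - ν₂) ∈ NN ρ T (n + 1) := by
            intro i
            induction i with
            | zero => simpa using h₁₂
            | succ i ihi =>
              rw [pow_succ', mul_assoc]
              exact NN_anti (by omega) (NN_mul hT _ _ (Submodule.mul_mem_mul h₂ ihi))
          exact this i
        have e : 1 - ν₁ = (1 - ν₂) * (1 - g * (ν₁ - ν₂)) := by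
          rw [mul_sub, mul_one, ← mul_assoc, hg, one_mul]
          abel
        rw [e, ← mul_one d]
        exact hd.mul (ih' _ hmem)
      have hadd : ∀ ν₁ ∈ NN ρ T n, ∀ ν₂ ∈ NN ρ T n, ∀ d₁ d₂, HasDet F (1 - ν₁) d₁ → HasDet F (1 - ν₂) d₂ →
          HasDet F (1 - (ν₁ + ν₂)) (d₁ * d₂) := by
        intro ν₁ h₁ ν₂ h₂ d₁ d₂ hd₁ hd₂
        have h12 : ν₁ * ν₂ ∈ NN ρ T (n + 1) :=
          NN_anti (by omega) (NN_mul hT n n (Submodule.mul_mem_mul h₁ h₂))
        have e : (1 - ν₁) * (1 - ν₂) = 1 - (ν₁ + ν₂ - ν₁ * ν₂) := by noncomm_ring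
        refine hcong (ν₁ + ν₂) ((NN ρ T n).add_mem h₁ h₂) (ν₁ + ν₂ - ν₁ * ν₂)
          ((NN ρ T n).sub_mem ((NN ρ T n).add_mem h₁ h₂) (NN_anti (by omega) h12)) ?_ _ ?_
        · rw [sub_sub_cancel]; exact h12
        · rw [← e]; exact hd₁.mul hd₂
      -- the leading terms
      have hlead : ∀ s ∈ Ideal.span (Set.range fun b : R => b ^ q ^ n - b), ∀ r : R,
          HasDet F (1 - ρ (r * s) * T ^ n) 1 := by
        intro s hs
        refine Submodule.span_induction (p := fun s _ => ∀ r : R, HasDet F (1 - ρ (r * s) * T ^ n) 1)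
          ?_ ?_ ?_ ?_ hs
        · rintro _ ⟨b, rfl⟩ r
          -- `r (b^(q^n) - b) T^n = u v - v u`, `u = r T^n`, `v = b`
          have hu : ρ r * T ^ n ∈ NN ρ T n := mem_NN le_rfl
          have huv : ρ r * T ^ n * ρ b = ρ (r * b ^ q ^ n) * T ^ n := by
            rw [mul_assoc, pow_comm hT, map_mul, mul_assoc]
          have hvu : ρ b * (ρ r * T ^ n) = ρ (r * b) * T ^ n := by
            rw [← mul_assoc, ← map_mul, mul_comm b r]
          have hvu_mem : ρ b * (ρ r * T ^ n) ∈ NN ρ T n := by rw [hvu]; exact mem_NN le_rfl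
          have huv_mem : ρ r * T ^ n * ρ b ∈ NN ρ T n := by rw [huv]; exact mem_NN le_rfl
          obtain ⟨d, hd⟩ := exists_hasDet hF (contr_of_mem hF hρ hq hTF hn hvu_mem)
          have hd' : HasDet F (1 - ρ r * T ^ n * ρ b) d :=
            HasDet.comm hF (hρ b) (strong_contr hF hρ hq hTF r hn) hd
          have hneg_mem : -(ρ b * (ρ r * T ^ n)) ∈ NN ρ T n := (NN ρ T n).neg_mem hvu_mem
          obtain ⟨d₂, hd₂⟩ := exists_hasDet hF (contr_of_mem hF hρ hq hTF hn hneg_mem)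
          have h1 : d * d₂ = 1 := by
            have := hadd _ hvu_mem _ hneg_mem _ _ hd hd₂
            rw [add_neg_cancel, sub_zero] at this
            exact this.unique HasDet.one
          have h2 := hadd _ huv_mem _ hneg_mem _ _ hd' hd₂
          rw [h1] at h2
          have e : ρ (r * (b ^ q ^ n - b)) * T ^ n = ρ r * T ^ n * ρ b + -(ρ b * (ρ r * T ^ n)) := by
            rw [huv, hvu, mul_sub, map_sub, sub_mul, sub_eq_add_neg]
          rw [e]
          exact h2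
        · intro r
          rw [mul_zero, map_zero, zero_mul, sub_zero]
          exact HasDet.one
        · intro x y _ _ hx hy r
          have := hadd _ (mem_NN (ρ := ρ) (T := T) (r := r * x) (le_refl n)) _
            (mem_NN (ρ := ρ) (T := T) (r := r * y) (le_refl n)) _ _ (hx r) (hy r)
          rw [mul_one, ← add_mul, ← map_add, ← mul_add] at this
          exact this
        · intro a x _ hx r
          rw [smul_eq_mul, ← mul_assoc]
          exact hx (r * a)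
      have hlead' : ∀ r : R, HasDet F (1 - ρ r * T ^ n) 1 := by
        intro r
        have := hlead 1 (by rw [hR n hn (by omega)]; trivial) r
        rwa [mul_one] at this
      intro ν hν
      refine Submodule.span_induction (p := fun ν _ => ν ∈ NN ρ T n ∧ HasDet F (1 - ν) 1)
        ?_ ?_ ?_ ?_ hν |>.2
      · rintro _ ⟨r, i, hi, rfl⟩
        refine ⟨mem_NN hi, ?_⟩
        rcases hi.eq_or_lt with rfl | hlt
        · exact hlead' r
        · exact ih' _ (mem_NN hlt)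
      · exact ⟨Submodule.zero_mem _, by rw [sub_zero]; exact HasDet.one⟩
      · rintro x y _ _ ⟨hx, hx'⟩ ⟨hy, hy'⟩
        exact ⟨Submodule.add_mem _ hx hy, by simpa using hadd x hx y hy 1 1 hx' hy'⟩
      · rintro s x _ ⟨hx, hx'⟩
        refine ⟨Submodule.smul_mem _ s hx, ?_⟩
        have hnx : -x ∈ NN ρ T n := (NN ρ T n).neg_mem hx
        have hneg : HasDet F (1 - -x) 1 := by
          obtain ⟨d₂, hd₂⟩ := exists_hasDet hF (contr_of_mem hF hρ hq hTF hn hnx)
          have := hadd _ hx _ hnx _ _ hx' hd₂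
          rw [add_neg_cancel, sub_zero, one_mul] at this
          rwa [← this.unique HasDet.one]
        induction s with
        | zero => rw [zero_smul, sub_zero]; exact HasDet.one
        | succ i ih =>
          rw [add_smul, one_smul]
          simpa using hadd _ (Submodule.smul_mem _ _ hx) _ hx _ _ ih hx'
        | pred i ih =>
          have := hadd _ (Submodule.smul_mem _ (-(i : ℤ)) hx) _ hnx _ _ ih hneg
          rwa [mul_one, show -(i : ℤ) • x + -x = (-(i : ℤ) - 1) • x by rw [sub_smul, one_smul, sub_eq_add_neg]] at this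
  intro n hn
  exact key D n hn (by omega)

include hF hρ hq hTF in
/-- **The determinant trick.**  `det(1 - T | Q / F a) = 1` for every `a ≥ 1`. -/
theorem det_one_sub_T {D : ℕ} (hD : T ^ D = 0) (hT : ∀ b, T * ρ b = ρ (b ^ q) * T)
    (hR : ∀ n, 1 ≤ n → n < D → Ideal.span (Set.range fun b : R => b ^ q ^ n - b) = ⊤)
    (a : ℕ) (ha : 1 ≤ a) (h : F a ≤ (F a).comap (1 - T)) :
    LinearMap.det ((F a).mapQ (F a) (1 - T) h) = 1 := by
  have h1 : T ∈ NN ρ T 1 := by
    have := mem_NN (ρ := ρ) (T := T) (r := 1) (le_refl 1)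
    rwa [map_one, one_mul, pow_one] at this
  obtain ⟨a₀, ha₀⟩ := hasDet_one_sub hF hρ hq hTF hD hT hR 1 le_rfl T h1
  have hTa : ∀ a, 1 ≤ a → ∀ x ∈ F a, T x ∈ F (a + 1) := fun a ha x hx =>
    hF (by nlinarith) (hTF a x hx)
  have hp : ∀ a, 1 ≤ a → F a ≤ (F a).comap (1 - T) := fun a ha x hx =>
    (F a).sub_mem hx (hF (Nat.le_succ a) (hTa a ha x hx))
  have hstep : ∀ k, LinearMap.det ((F (a + k)).mapQ (F (a + k)) (1 - T) (hp (a + k) (by omega))) =
      LinearMap.det ((F a).mapQ (F a) (1 - T) h) := by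
    intro k
    induction k with
    | zero => rfl
    | succ k ih =>
      rw [← ih]
      exact det_mapQ_succ hF T (a + k) (hTa (a + k) (by omega)) (hp (a + k) (by omega)) _
  obtain ⟨_, h₂⟩ := ha₀ (a + a₀) (by omega)
  rw [← hstep a₀]
  exact h₂

end Main

end Groth.Agent.Sga4h.H925.AT
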